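import Groth.Agent.L19.LocImm.Open
import Groth.Agent.L23.SchemeFacts

/-!
# Two finite type models have a common open part
-/

universe u

open CategoryTheory CategoryTheory.Limits AlgebraicGeometry TopologicalSpace

namespace Groth.L19.LocImm

set_option backward.isDefEq.respectTransparency.types false
set_option backward.isDefEq.respectTransparency false
set_option linter.style.haveILetI false

theorem isLocImmersion_of_comp_isOpenImmersion {X W Y : Scheme.{u}} (k : X ⟶ W) (i : W ⟶ Y)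
    [IsOpenImmersion i] [NoetherianSpace X] (h : _root_.LocImm.IsLocImmersion (k ≫ i)) :
    _root_.LocImm.IsLocImmersion k := by
  have sq : IsPullback (𝟙 X) k (k ≫ i) i := IsPullback.of_horiz_isIso_mono ⟨by simp⟩
  haveI : NoetherianSpace ↥(pullback (k ≫ i) i) :=
    sq.isoPullback.inv.isOpenEmbedding.isInducing.noetherianSpace
  have := isLocImmersion_iso_comp sq.isoPullback.hom (isLocImmersion_pullback_snd (k ≫ i) i h)
  rwa [sq.isoPullback_hom_snd] at this

theorem isNoetherian_of_lft {X Y : Scheme.{u}} (f : X ⟶ Y) [LocallyOfFiniteType f] [QuasiCompact f]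
    [IsNoetherian Y] : IsNoetherian X :=
  haveI := LocallyOfFiniteType.isLocallyNoetherian f
  haveI : CompactSpace X := QuasiCompact.compactSpace_of_compactSpace f
  { }

variable {X Y₁ Y₂ S : Scheme.{u}}

theorem exists_common [IsNoetherian X] [IsNoetherian Y₁] [IsNoetherian Y₂] [IsNoetherian S]
    (f₁ : X ⟶ Y₁) (f₂ : X ⟶ Y₂) (π₁ : Y₁ ⟶ S) (π₂ : Y₂ ⟶ S)
    (hf₁ : _root_.LocImm.IsLocImmersion f₁) (hf₂ : _root_.LocImm.IsLocImmersion f₂)
    [IsSeparated π₁] [IsSeparated π₂] [LocallyOfFiniteType π₁] [LocallyOfFiniteType π₂]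
    (h : f₁ ≫ π₁ = f₂ ≫ π₂) :
    ∃ (W : Scheme.{u}) (k : X ⟶ W) (g₁ : W ⟶ Y₁) (g₂ : W ⟶ Y₂),
      _root_.LocImm.IsLocImmersion k ∧ IsOpenImmersion g₁ ∧ IsOpenImmersion g₂ ∧
      g₁ ≫ π₁ = g₂ ≫ π₂ ∧ k ≫ g₁ = f₁ ∧ k ≫ g₂ = f₂ := by
  let m : X ⟶ pullback π₁ π₂ := pullback.lift f₁ f₂ h
  haveI : QuasiCompact π₂ := quasiCompact_of_noetherianSpace π₂
  haveI : QuasiCompact π₁ := quasiCompact_of_noetherianSpace π₁
  haveI : IsNoetherian (pullback π₁ π₂) := isNoetherian_of_lft (pullback.fst π₁ π₂)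
  haveI : QuasiCompact m := quasiCompact_of_noetherianSpace m
  let p₁ : m.image ⟶ Y₁ := m.imageι ≫ pullback.fst π₁ π₂
  let p₂ : m.image ⟶ Y₂ := m.imageι ≫ pullback.snd π₁ π₂
  haveI : IsNoetherian m.image := isNoetherian_of_lft m.imageι
  have e₁ : m.toImage ≫ p₁ = f₁ := by simp [p₁, m]
  have e₂ : m.toImage ≫ p₂ = f₂ := by simp [p₂, m]
  have ht : _root_.LocImm.IsLocImmersion m.toImage :=
    isLocImmersion_of_comp_injective p₁ (e₁.symm ▸ hf₁) (app_injective_toImage m)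
  haveI := locallyEssFiniteType_of_locallyOfFiniteType p₁
  haveI := locallyEssFiniteType_of_locallyOfFiniteType p₂
  obtain ⟨U₁, hU₁, hl₁⟩ := exists_open_isLocImmersion m.toImage f₁ p₁ ht hf₁ e₁
  obtain ⟨U₂, hU₂, hl₂⟩ := exists_open_isLocImmersion m.toImage f₂ p₂ ht hf₂ e₂
  let U := U₁ ⊓ U₂
  haveI : IsNoetherian U.toScheme := isNoetherian_of_lft U.ι
  have hk : Set.range m.toImage ⊆ Set.range U.ι := by
    rw [Scheme.Opens.range_ι]; exact fun z hz => ⟨hU₁ hz, hU₂ hz⟩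
  let k : X ⟶ U.toScheme := IsOpenImmersion.lift U.ι m.toImage hk
  have hki : k ≫ U.ι = m.toImage := IsOpenImmersion.lift_fac _ _ _
  have key : ∀ {Y : Scheme.{u}} [IsNoetherian Y] (p : m.image ⟶ Y) [LocallyOfFiniteType p]
      (V : m.image.Opens) (hle : U ≤ V), _root_.LocImm.IsLocImmersion (V.ι ≫ p) →
        IsOpenImmersion (U.ι ≫ p) := by
    intro Y _ p _ V hle hl
    haveI : IsNoetherian V.toScheme := isNoetherian_of_lft V.ι
    have hl' := isLocImmersion_comp (isLocImmersion_of_isOpenImmersion (m.image.homOfLE hle)) hl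
    rw [Scheme.homOfLE_ι_assoc] at hl'
    haveI := Groth.L23.lfp_of_lft_locallyNoetherian (U.ι ≫ p)
    exact isOpenImmersion_of_isLocImmersion hl'
  refine ⟨U.toScheme, k, U.ι ≫ p₁, U.ι ≫ p₂, ?_, key p₁ U₁ inf_le_left hl₁,
    key p₂ U₂ inf_le_right hl₂, ?_, by rw [reassoc_of% hki, e₁], by rw [reassoc_of% hki, e₂]⟩
  · exact isLocImmersion_of_comp_isOpenImmersion k U.ι (hki.symm ▸ ht)
  · simp only [p₁, p₂, Category.assoc, pullback.condition]

end Groth.L19.LocImm
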