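import Groth.Agent.L19.LocImm.Common
import Groth.Agent.L19.Approx.Glue
import Mathlib.AlgebraicGeometry.Morphisms.Immersion

/-!
# Gluing two factorizations through localizing immersions
-/

universe u

open CategoryTheory CategoryTheory.Limits AlgebraicGeometry TopologicalSpace

namespace Groth.L19.LocImm

set_option backward.isDefEq.respectTransparency.types false
set_option backward.isDefEq.respectTransparency false
set_option linter.style.haveILetI false

variable {X Y S : Scheme.{u}}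

theorem isLocalizing_of_cover (k : X ⟶ Y)
    (h : ∀ x : X, ∃ O : X.Opens, x ∈ O ∧ _root_.LocImm.IsLocalizing (O.ι ≫ k)) :
    _root_.LocImm.IsLocalizing k := by
  intro x
  obtain ⟨O, hxO, hO⟩ := h x
  obtain ⟨U, V, hxV, e, hl⟩ := hO ⟨x, hxO⟩
  let V' : X.Opens := O.ι ''ᵁ V.1
  have he : V' ≤ k ⁻¹ᵁ U.1 := by rintro _ ⟨z, hz, rfl⟩; exact e hz
  refine ⟨U, ⟨V', V.2.image_of_isOpenImmersion O.ι⟩, ⟨⟨x, hxO⟩, hxV, rfl⟩, he, ?_⟩
  have h1 : V.1 ≤ O.ι ⁻¹ᵁ V' := fun z hz => ⟨z, hz, rfl⟩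
  have hiso : IsIso (O.ι.appLE V' V.1 h1) := by
    have hV : O.ι ⁻¹ᵁ V' = V.1 := Scheme.Hom.preimage_image_eq O.ι V.1
    haveI : IsIso (O.ι.app V') := O.ι.isIso_app V' (O.ι.image_le_opensRange V.1)
    rw [Scheme.Hom.appLE]
    haveI : IsIso (homOfLE h1) := ⟨homOfLE hV.le, rfl, rfl⟩
    infer_instance
  rw [← Scheme.Hom.appLE_comp_appLE O.ι k U.1 V' V.1 he h1] at hl
  have : k.appLE U.1 V' he = (k.appLE U.1 V' he ≫ O.ι.appLE V' V.1 h1) ≫ inv (O.ι.appLE V' V.1 h1) := by
    simp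
  rw [this, CommRingCat.hom_comp]
  exact isLocHom_comp hl (isLocHom_of_bijective
    (ConcreteCategory.bijective_of_isIso (inv (O.ι.appLE V' V.1 h1))))

theorem preimage_range_diagonal (k : X ⟶ Y) [Mono k] (p : Y ⟶ S) :
    pullback.map (k ≫ p) (k ≫ p) p p k k (𝟙 S) (by simp) (by simp) ⁻¹'
        Set.range (pullback.diagonal p) = Set.range (pullback.diagonal (k ≫ p)) := by
  let m := pullback.map (k ≫ p) (k ≫ p) p p k k (𝟙 S) (by simp) (by simp)
  refine subset_antisymm ?_ ?_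
  · rw [← Scheme.Pullback.range_fst m (pullback.diagonal p)]
    rintro _ ⟨t, rfl⟩
    refine ⟨(pullback.fst m (pullback.diagonal p) ≫ pullback.fst _ _) t, ?_⟩
    have hc := pullback.condition (f := m) (g := pullback.diagonal p)
    have h1 : (pullback.fst m (pullback.diagonal p) ≫ pullback.fst (k ≫ p) (k ≫ p)) =
        pullback.fst m (pullback.diagonal p) ≫ pullback.snd (k ≫ p) (k ≫ p) := by
      rw [← cancel_mono k]
      have ha := congrArg (· ≫ pullback.fst p p) hc
      have hb := congrArg (· ≫ pullback.snd p p) hc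
      simp only [m, Category.assoc, pullback.lift_fst, pullback.lift_snd, pullback.diagonal_fst,
        pullback.diagonal_snd, Category.comp_id] at ha hb
      simp only [Category.assoc]
      rw [ha, hb]
    have e : (pullback.fst m (pullback.diagonal p) ≫ pullback.fst _ _) ≫
        pullback.diagonal (k ≫ p) = pullback.fst m (pullback.diagonal p) := by
      apply pullback.hom_ext
      · simp
      · simp [h1]
    exact congr($e t)
  · rintro _ ⟨x, rfl⟩
    refine ⟨k x, ?_⟩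
    have e : k ≫ pullback.diagonal p = pullback.diagonal (k ≫ p) ≫ m := by
      apply pullback.hom_ext <;> simp [m]
    exact congr($e x)

theorem exists_open_isSeparated [NoetherianSpace Y] (k : X ⟶ Y) [IsPreimmersion k] (p : Y ⟶ S)
    [NoetherianSpace ↥(pullback p p)] [IsSeparated (k ≫ p)]
    (hgen : StableUnderGeneralization (Set.range k)) :
    ∃ O : Y.Opens, Set.range k ⊆ (O : Set Y) ∧ IsSeparated (O.ι ≫ p) := by
  classical
  let Δ := pullback.diagonal p
  let Γ : Set ↥(pullback p p) := Set.range Δ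
  let D : Set ↥(pullback p p) := (coborder Γ)ᶜ
  have hD : IsClosed D := (Δ.isLocallyClosed_range.isOpen_coborder).isClosed_compl
  have hDdef : D = closure Γ \ Γ := compl_compl _
  let m := pullback.map (k ≫ p) (k ≫ p) p p k k (𝟙 S) (by simp) (by simp)
  haveI : IsPreimmersion m :=
    MorphismProperty.pullbackMap (P := @IsPreimmersion) inferInstance inferInstance rfl rfl
  have hK : ∀ z ∈ D, pullback.fst p p z ∉ Set.range k ∨ pullback.snd p p z ∉ Set.range k := by
    intro z hz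
    by_contra hn
    rw [not_or, not_not, not_not] at hn
    rw [hDdef] at hz
    obtain ⟨Ss, hSf, hSc, hSi, hS⟩ :=
      NoetherianSpace.exists_finite_set_isClosed_irreducible (isClosed_univ (X := Y))
    have hcl : closure Γ ⊆ ⋃ Z ∈ Ss, closure (Δ '' Z) := by
      refine closure_minimal ?_ (hSf.isClosed_biUnion fun _ _ => isClosed_closure)
      rintro _ ⟨y, rfl⟩
      obtain ⟨Z, hZ, hyZ⟩ : y ∈ ⋃₀ Ss := hS ▸ Set.mem_univ y
      exact Set.mem_biUnion hZ (subset_closure ⟨y, hyZ, rfl⟩)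
    obtain ⟨Z, hZ, hzZ⟩ := Set.mem_iUnion₂.mp (hcl hz.1)
    obtain ⟨η, hη⟩ := QuasiSober.sober (hSi Z hZ) (hSc Z hZ)
    have hsub : Δ '' Z ⊆ closure {Δ η} := by
      rintro _ ⟨y, hy, rfl⟩
      exact ((hη.specializes hy).map Δ.continuous).mem_closure
    have hsp : Δ η ⤳ z :=
      specializes_iff_mem_closure.mpr (closure_minimal hsub isClosed_closure hzZ)
    have hr : ∀ w, w ∈ Set.range m ↔
        pullback.fst p p w ∈ Set.range k ∧ pullback.snd p p w ∈ Set.range k := fun w => by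
      rw [Scheme.Pullback.range_map]; rfl
    obtain ⟨ξ, rfl⟩ := (hr z).mpr hn
    obtain ⟨ξ', hξ'⟩ := (hr (Δ η)).mpr ⟨hgen (hsp.map (pullback.fst p p).continuous) hn.1,
      hgen (hsp.map (pullback.snd p p).continuous) hn.2⟩
    have hξξ' : ξ' ⤳ ξ := m.isEmbedding.isInducing.specializes_iff.mp (hξ' ▸ hsp)
    have hmem : ξ' ∈ Set.range (pullback.diagonal (k ≫ p)) := by
      rw [← preimage_range_diagonal k p]; exact ⟨η, hξ'.symm⟩
    have := hξξ'.mem_closed (pullback.diagonal (k ≫ p)).isClosedEmbedding.isClosed_range hmem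
    rw [← preimage_range_diagonal k p] at this
    exact hz.2 this
  obtain ⟨Ss, hSf, hSc, hSi, hS⟩ := NoetherianSpace.exists_finite_set_isClosed_irreducible hD
  have hchoice : ∀ Z : Ss, ∃ y : Y, y ∉ Set.range k ∧ ∀ z ∈ (Z : Set ↥(pullback p p)),
      y ⤳ pullback.fst p p z ∨ y ⤳ pullback.snd p p z := by
    rintro ⟨Z, hZ⟩
    obtain ⟨η, hη⟩ := QuasiSober.sober (hSi Z hZ) (hSc Z hZ)
    have hηD : η ∈ D := hS ▸ ⟨Z, hZ, hη.mem⟩
    rcases hK η hηD with h | h
    · exact ⟨_, h, fun z hz => .inl ((hη.specializes hz).map (pullback.fst p p).continuous)⟩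
    · exact ⟨_, h, fun z hz => .inr ((hη.specializes hz).map (pullback.snd p p).continuous)⟩
  choose y hy hyz using hchoice
  haveI : Finite Ss := hSf.to_subtype
  let T : Set Y := ⋃ Z : Ss, closure {y Z}
  have hT : IsClosed T := isClosed_iUnion_of_finite fun _ => isClosed_closure
  let O : Y.Opens := ⟨Tᶜ, hT.isOpen_compl⟩
  refine ⟨O, ?_, ?_⟩
  · rintro _ ⟨x, rfl⟩ hxT
    obtain ⟨Z, hZ⟩ := Set.mem_iUnion.mp hxT
    exact hy Z (hgen (specializes_iff_mem_closure.mpr hZ) ⟨x, rfl⟩)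
  let m' := pullback.map (O.ι ≫ p) (O.ι ≫ p) p p O.ι O.ι (𝟙 S) (by simp) (by simp)
  have e : m' ⁻¹' closure Γ = m' ⁻¹' Γ := by
    refine subset_antisymm (fun w hw => ?_) (Set.preimage_mono subset_closure)
    by_contra hn
    obtain ⟨Z, hZ, hwZ⟩ : m' w ∈ ⋃₀ Ss := hS ▸ (hDdef ▸ ⟨hw, hn⟩ : m' w ∈ D)
    rcases hyz ⟨Z, hZ⟩ _ hwZ with h | h
    · have : pullback.fst p p (m' w) ∈ O := by
        rw [← Scheme.Hom.comp_apply, pullback.lift_fst, Scheme.Hom.comp_apply]
        exact (pullback.fst (O.ι ≫ p) (O.ι ≫ p) w).2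
      exact this (Set.mem_iUnion.mpr ⟨⟨Z, hZ⟩, specializes_iff_mem_closure.mp h⟩)
    · have : pullback.snd p p (m' w) ∈ O := by
        rw [← Scheme.Hom.comp_apply, pullback.lift_snd, Scheme.Hom.comp_apply]
        exact (pullback.snd (O.ι ≫ p) (O.ι ≫ p) w).2
      exact this (Set.mem_iUnion.mpr ⟨⟨Z, hZ⟩, specializes_iff_mem_closure.mp h⟩)
  have hcl : IsClosed (Set.range (pullback.diagonal (O.ι ≫ p))) := by
    rw [← preimage_range_diagonal O.ι p, ← e]
    exact isClosed_closure.preimage m'.continuous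
  exact ⟨IsClosedImmersion.of_isPreimmersion _ hcl⟩

theorem stableUnderGeneralization_range {k : X ⟶ Y} (hk : _root_.LocImm.IsLocImmersion k) :
    StableUnderGeneralization (Set.range k) := by
  rintro a b h ⟨x, rfl⟩
  obtain ⟨x', -, e⟩ := exists_specializes_apply_eq hk.1 h
  exact ⟨x', e⟩

theorem exists_open_model [IsNoetherian X] [IsNoetherian Y] [IsNoetherian S] (k : X ⟶ Y)
    (hk : _root_.LocImm.IsLocImmersion k) (p : Y ⟶ S) [LocallyOfFiniteType p]
    [IsSeparated (k ≫ p)] :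
    ∃ (Y' : Scheme.{u}) (k' : X ⟶ Y') (p' : Y' ⟶ S), IsNoetherian Y' ∧
      _root_.LocImm.IsLocImmersion k' ∧ IsSeparated p' ∧ LocallyOfFiniteType p' ∧
      QuasiCompact p' ∧ k' ≫ p' = k ≫ p := by
  haveI := isPreimmersion_of_isLocImmersion hk
  haveI : QuasiCompact p := quasiCompact_of_noetherianSpace p
  haveI : IsNoetherian (pullback p p) := isNoetherian_of_lft (pullback.fst p p)
  obtain ⟨O, hO, hsep⟩ := exists_open_isSeparated k p (stableUnderGeneralization_range hk)
  haveI : IsNoetherian O.toScheme := isNoetherian_of_lft O.ι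
  have hr : Set.range k ⊆ Set.range O.ι := by rwa [Scheme.Opens.range_ι]
  let k' : X ⟶ O.toScheme := IsOpenImmersion.lift O.ι k hr
  have e : k' ≫ O.ι = k := IsOpenImmersion.lift_fac _ _ _
  exact ⟨O.toScheme, k', O.ι ≫ p, inferInstance,
    isLocImmersion_of_comp_isOpenImmersion k' O.ι (e.symm ▸ hk), hsep, inferInstance,
    quasiCompact_of_noetherianSpace _, by rw [reassoc_of% e]⟩

end Groth.L19.LocImm
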