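import Groth.Agent.L19.LocImm.Two
import Mathlib.RingTheory.FiniteType

/-!
# Separated essentially finite type morphisms factor through localizing immersions
-/

universe u

open CategoryTheory CategoryTheory.Limits AlgebraicGeometry TopologicalSpace

namespace Groth.L19.LocImm

set_option backward.isDefEq.respectTransparency.types false
set_option backward.isDefEq.respectTransparency false
set_option linter.style.haveILetI false

theorem isLocImmersion_specMap {A B : CommRingCat.{u}} (φ : A ⟶ B) [NoetherianSpace ↥(Spec B)]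
    (h : _root_.LocImm.IsLocHom φ.hom) : _root_.LocImm.IsLocImmersion (Spec.map φ) := by
  refine isLocImmersion_iff.mpr fun x => ⟨⊤, trivial, isAffineOpen_top _, isAffineOpen_top _, ?_⟩
  have e : (Spec.map φ).app ⊤ = (Scheme.ΓSpecIso A).hom ≫ φ ≫ (Scheme.ΓSpecIso B).inv := by
    rw [← Scheme.ΓSpecIso_naturality_assoc, Iso.hom_inv_id, Category.comp_id]
  rw [e, CommRingCat.hom_comp, CommRingCat.hom_comp]
  exact isLocHom_comp
    (isLocHom_of_bijective (ConcreteCategory.bijective_of_isIso (Scheme.ΓSpecIso A).hom))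
    (isLocHom_comp h
      (isLocHom_of_bijective (ConcreteCategory.bijective_of_isIso (Scheme.ΓSpecIso B).inv)))

variable {X S : Scheme.{u}}

/-- The morphism on the open `U` factors as required. -/
def Factors (f : X ⟶ S) (U : X.Opens) : Prop :=
  ∃ (Y : Scheme.{u}) (k : U.toScheme ⟶ Y) (p : Y ⟶ S), IsNoetherian Y ∧
    _root_.LocImm.IsLocImmersion k ∧ IsSeparated p ∧ LocallyOfFiniteType p ∧ QuasiCompact p ∧
      k ≫ p = U.ι ≫ f

variable [IsNoetherian X] [IsNoetherian S] {f : X ⟶ S} [IsSeparated f]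

theorem factors_of_appLE {U : S.Opens} (hU : IsAffineOpen U) {V : X.Opens} (hV : IsAffineOpen V)
    (e : V ≤ f ⁻¹ᵁ U) (h : (f.appLE U V e).hom.EssFiniteType) : Factors f V := by
  haveI : IsNoetherianRing Γ(S, U) := IsLocallyNoetherian.component_noetherian ⟨U, hU⟩
  letI := (f.appLE U V e).hom.toAlgebra
  haveI : Algebra.EssFiniteType Γ(S, U) Γ(X, V) := h
  let F := Algebra.EssFiniteType.subalgebra Γ(S, U) Γ(X, V)
  haveI : IsNoetherianRing F := Algebra.FiniteType.isNoetherianRing Γ(S, U) F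
  let F' := CommRingCat.of F
  haveI : IsNoetherianRing F' := ‹IsNoetherianRing F›
  let α : Γ(S, U) ⟶ F' := CommRingCat.ofHom (algebraMap Γ(S, U) F)
  let β : F' ⟶ Γ(X, V) := CommRingCat.ofHom (algebraMap F Γ(X, V))
  have hαβ : α ≫ β = f.appLE U V e := rfl
  haveI : NoetherianSpace ↥(Spec Γ(X, V)) :=
    hV.fromSpec.isOpenEmbedding.isInducing.noetherianSpace
  have hβ : _root_.LocImm.IsLocImmersion (Spec.map β) :=
    isLocImmersion_specMap β (isLocHom_algebraMap (Algebra.EssFiniteType.submonoid Γ(S, U) Γ(X, V)))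
  haveI : LocallyOfFiniteType (Spec.map α) :=
    (HasRingHomProperty.Spec_iff (P := @LocallyOfFiniteType)).mpr
      (RingHom.finiteType_algebraMap.mpr inferInstance)
  haveI : IsNoetherian V.toScheme := isNoetherian_of_lft V.ι
  refine ⟨Spec F', hV.isoSpec.hom ≫ Spec.map β, Spec.map α ≫ hU.fromSpec, inferInstance,
    isLocImmersion_iso_comp _ hβ, inferInstance, inferInstance, quasiCompact_of_noetherianSpace _, ?_⟩
  rw [Category.assoc, ← Spec.map_comp_assoc, hαβ, IsAffineOpen.SpecMap_appLE_fromSpec f hU hV e,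
    IsAffineOpen.isoSpec_hom_fromSpec_assoc]

theorem Factors.sup {U V : X.Opens} (hU : Factors f U) (hV : Factors f V) : Factors f (U ⊔ V) := by
  obtain ⟨Y₁, k₁, p₁, hn₁, hk₁, hs₁, hl₁, hq₁, h₁⟩ := hU
  obtain ⟨Y₂, k₂, p₂, hn₂, hk₂, hs₂, hl₂, hq₂, h₂⟩ := hV
  haveI : ∀ T : X.Opens, IsNoetherian T.toScheme := fun T => isNoetherian_of_lft T.ι
  let W := U ⊔ V
  let U' : W.toScheme.Opens := W.ι ⁻¹ᵁ U
  let V' : W.toScheme.Opens := W.ι ⁻¹ᵁ V
  haveI : IsNoetherian U'.toScheme := isNoetherian_of_lft U'.ι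
  haveI : IsNoetherian V'.toScheme := isNoetherian_of_lft V'.ι
  let j₁ := IsOpenImmersion.lift U.ι (U'.ι ≫ W.ι) (by
    rintro _ ⟨z, rfl⟩; rw [Scheme.Opens.range_ι]; exact z.2)
  let j₂ := IsOpenImmersion.lift V.ι (V'.ι ≫ W.ι) (by
    rintro _ ⟨z, rfl⟩; rw [Scheme.Opens.range_ι]; exact z.2)
  have ej₁ : j₁ ≫ U.ι = U'.ι ≫ W.ι := IsOpenImmersion.lift_fac _ _ _
  have ej₂ : j₂ ≫ V.ι = V'.ι ≫ W.ι := IsOpenImmersion.lift_fac _ _ _
  haveI : IsOpenImmersion j₁ := by
    haveI : IsOpenImmersion (j₁ ≫ U.ι) := by rw [ej₁]; infer_instance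
    exact IsOpenImmersion.of_comp j₁ U.ι
  haveI : IsOpenImmersion j₂ := by
    haveI : IsOpenImmersion (j₂ ≫ V.ι) := by rw [ej₂]; infer_instance
    exact IsOpenImmersion.of_comp j₂ V.ι
  haveI : IsNoetherian W.toScheme := inferInstance
  exact exists_of_two (W.ι ≫ f) U' V' (by
      refine top_le_iff.mp fun z _ => ?_
      rcases (show z.1 ∈ U ∨ z.1 ∈ V from z.2) with hz | hz
      · exact le_sup_left (a := U') hz
      · exact le_sup_right (b := V') hz)
    (j₁ ≫ k₁) (j₂ ≫ k₂) p₁ p₂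
    (isLocImmersion_comp (isLocImmersion_of_isOpenImmersion j₁) hk₁)
    (isLocImmersion_comp (isLocImmersion_of_isOpenImmersion j₂) hk₂)
    (by rw [Category.assoc, h₁, reassoc_of% ej₁]) (by rw [Category.assoc, h₂, reassoc_of% ej₂])

theorem exists_factorization [EssFT.LocallyEssFiniteType f] :
    ∃ (Y : Scheme.{u}) (k : X ⟶ Y) (p : Y ⟶ S), IsNoetherian Y ∧
      _root_.LocImm.IsLocImmersion k ∧ IsSeparated p ∧ LocallyOfFiniteType p ∧ QuasiCompact p ∧
      k ≫ p = f := by
  classical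
  choose U V hxV e he using fun x => EssFT.LocallyEssFiniteType.exists_appLE_essFiniteType (f := f) x
  obtain ⟨s, hs⟩ := (CompactSpace.isCompact_univ (X := X)).elim_finite_subcover
    (fun x => ((V x).1 : Set X)) (fun x => (V x).1.2) fun x _ => Set.mem_iUnion.mpr ⟨x, hxV x⟩
  have hbot : Factors f (⊥ : X.Opens) := by
    haveI : IsEmpty (⊥ : X.Opens).toScheme := ⟨fun z => z.2.elim⟩
    haveI : IsNoetherian (⊥ : X.Opens).toScheme := isNoetherian_of_lft (⊥ : X.Opens).ι
    exact ⟨(⊥ : X.Opens).toScheme, 𝟙 _, (⊥ : X.Opens).ι ≫ f, inferInstance,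
      isLocImmersion_of_isOpenImmersion _, inferInstance, inferInstance,
      quasiCompact_of_noetherianSpace _, by simp⟩
  have key : ∀ t : Finset X, Factors f (t.sup fun x => (V x).1) := fun t => by
    induction t using Finset.induction with
    | empty => simpa using hbot
    | @insert a t _ ih =>
      rw [Finset.sup_insert]
      exact (factors_of_appLE (U a).2 (V a).2 (e a) (he a)).sup ih
  have htop : s.sup (fun x => (V x).1) = ⊤ := top_le_iff.mp fun x _ => by
    obtain ⟨i, hi, hx⟩ := Set.mem_iUnion₂.mp (hs (Set.mem_univ x))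
    exact Finset.le_sup (f := fun x => (V x).1) hi hx
  have h := key s
  rw [htop] at h
  obtain ⟨Y, k, p, hn, hk, hsep, hl, hq, h'⟩ := h
  haveI : IsNoetherian (⊤ : X.Opens).toScheme := isNoetherian_of_lft (⊤ : X.Opens).ι
  exact ⟨Y, X.topIso.inv ≫ k, p, hn, isLocImmersion_iso_comp _ hk, hsep, hl, hq, by
    rw [Category.assoc, h', ← Scheme.topIso_hom, Iso.inv_hom_id_assoc]⟩

end Groth.L19.LocImm
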