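import Groth.Agent.L19.LocImm.Props
import Mathlib.AlgebraicGeometry.Morphisms.Flat
import Mathlib.AlgebraicGeometry.Morphisms.Affine
import Mathlib.RingTheory.Localization.BaseChange
import Mathlib.Algebra.Category.Ring.Constructions

/-!
# Base change of localizing immersions
-/

universe u

open CategoryTheory CategoryTheory.Limits AlgebraicGeometry TopologicalSpace

namespace Groth.L19.LocImm

set_option backward.isDefEq.respectTransparency.types false
set_option backward.isDefEq.respectTransparency false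
set_option linter.style.haveILetI false

theorem isLocHom_of_isPushout {A B A' B' : CommRingCat.{u}} {φ : A ⟶ B} {ψ : A ⟶ A'}
    {inl : B ⟶ B'} {inr : A' ⟶ B'} (h : IsPushout φ ψ inl inr)
    (hφ : _root_.LocImm.IsLocHom φ.hom) : _root_.LocImm.IsLocHom inr.hom := by
  letI := φ.hom.toAlgebra
  letI := ψ.hom.toAlgebra
  letI := inl.hom.toAlgebra
  letI := inr.hom.toAlgebra
  letI := (φ ≫ inl).hom.toAlgebra
  haveI : IsScalarTower A B B' := IsScalarTower.of_algebraMap_eq' rfl
  haveI : IsScalarTower A A' B' := IsScalarTower.of_algebraMap_eq' congr(($h.w).hom)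
  obtain ⟨S, hS⟩ := hφ
  have hp : Algebra.IsPushout A B A' B' := CommRingCat.isPushout_iff_isPushout.mp h
  haveI : IsLocalization (Algebra.algebraMapSubmonoid A' S) B' :=
    (Algebra.isLocalization_iff_isPushout S B).mpr hp.symm
  exact isLocHom_algebraMap (Algebra.algebraMapSubmonoid A' S)

variable {X Y Y' : Scheme.{u}} (f : X ⟶ Y) (g : Y' ⟶ Y)

theorem isAffineOpen_snd_preimage {W : Y.Opens} (hW : IsAffineOpen W)
    (hP : IsAffineOpen (f ⁻¹ᵁ W)) {W' : Y'.Opens} (hW' : IsAffineOpen W') (e : W' ≤ g ⁻¹ᵁ W) :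
    IsAffineOpen (pullback.snd f g ⁻¹ᵁ W') := by
  haveI : IsAffine (f ⁻¹ᵁ W).toScheme := hP
  haveI : IsAffine W.toScheme := hW
  haveI : IsAffine W'.toScheme := hW'
  let i : pullback (f ∣_ W) (g.resLE W W' e) ⟶ pullback f g :=
    pullback.map _ _ _ _ (f ⁻¹ᵁ W).ι W'.ι W.ι (morphismRestrict_ι f W) (Scheme.Hom.resLE_comp_ι g e)
  convert! isAffineOpen_opensRange i
  apply Opens.ext
  rw [Scheme.Hom.coe_opensRange, Scheme.Pullback.range_map, Scheme.Opens.range_ι,
    Scheme.Opens.range_ι]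
  ext z
  refine ⟨fun hz => ⟨?_, hz⟩, fun hz => hz.2⟩
  show f (pullback.fst f g z) ∈ W
  rw [← Scheme.Hom.comp_apply, pullback.condition, Scheme.Hom.comp_apply]
  exact e hz

theorem isLocImmersion_pullback_snd [NoetherianSpace X] (hf : _root_.LocImm.IsLocImmersion f) :
    _root_.LocImm.IsLocImmersion (pullback.snd f g) := by
  haveI := isPreimmersion_of_isLocImmersion hf
  refine ⟨fun z => ?_, (pullback.snd f g).isEmbedding.injective⟩
  obtain ⟨W, hxW, hW, hP, hh⟩ := isLocImmersion_iff.mp hf (pullback.fst f g z)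
  have hgz : pullback.snd f g z ∈ g ⁻¹ᵁ W := by
    show g (pullback.snd f g z) ∈ W
    rw [← Scheme.Hom.comp_apply, ← pullback.condition, Scheme.Hom.comp_apply]
    exact hxW
  obtain ⟨_, ⟨W', hW', rfl⟩, hzW', hW'W⟩ :=
    Y'.isBasis_affineOpens.exists_subset_of_mem_open hgz (g ⁻¹ᵁ W).2
  have hQ : pullback.snd f g ⁻¹ᵁ W' = pullback.fst f g ⁻¹ᵁ (f ⁻¹ᵁ W) ⊓ pullback.snd f g ⁻¹ᵁ W' := by
    refine (inf_eq_right.mpr ?_).symm
    rw [← Scheme.Hom.comp_preimage, pullback.condition, Scheme.Hom.comp_preimage]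
    exact fun _ hx => hW'W hx
  haveI := isIso_pushoutSection_of_isAffineOpen (IsPullback.of_hasPullback f g)
    (US := W) (UT := W') (UX := f ⁻¹ᵁ W) hW'W le_rfl hQ hW hW' hP
  have hpo := (isIso_pushoutSection_iff (IsPullback.of_hasPullback f g)
    (US := W) (UT := W') (UX := f ⁻¹ᵁ W) hW'W le_rfl hQ).mp inferInstance
  have h1 : _root_.LocImm.IsLocHom (f.appLE W (f ⁻¹ᵁ W) le_rfl).hom := by
    rwa [← Scheme.Hom.app_eq_appLE]
  exact ⟨⟨W', hW'⟩, ⟨_, isAffineOpen_snd_preimage f g hW hP hW' hW'W⟩, hzW', le_rfl,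
    isLocHom_of_isPushout hpo h1⟩

end Groth.L19.LocImm
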