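import Groth.Agent.L19.LocImm.Ring
import Mathlib.AlgebraicGeometry.Morphisms.Preimmersion
import Mathlib.AlgebraicGeometry.Morphisms.UniversallyOpen
import Mathlib.AlgebraicGeometry.Noetherian

/-!
# Localizing immersions
-/

universe u

open CategoryTheory CategoryTheory.Limits AlgebraicGeometry TopologicalSpace

namespace Groth.L19.LocImm

set_option backward.isDefEq.respectTransparency.types false
set_option backward.isDefEq.respectTransparency false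
set_option linter.style.haveILetI false

variable {X Y : Scheme.{u}} {f : X ⟶ Y}

theorem isPreimmersion_ι_comp {U : Y.Opens} (hU : IsAffineOpen U) {V : X.Opens} (hV : IsAffineOpen V)
    (e : V ≤ f ⁻¹ᵁ U) (h : _root_.LocImm.IsLocHom (f.appLE U V e).hom) :
    IsPreimmersion (V.ι ≫ f) := by
  letI := (f.appLE U V e).hom.toAlgebra
  obtain ⟨S, hS⟩ := h
  haveI : IsPreimmersion (Spec.map (f.appLE U V e)) :=
    IsPreimmersion.of_isLocalization (R := Γ(Y, U)) (S := Γ(X, V)) S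
  rw [← hV.isoSpec_hom_fromSpec, Category.assoc, ← IsAffineOpen.SpecMap_appLE_fromSpec f hU hV e]
  infer_instance

theorem flat_ι_comp {U : Y.Opens} (hU : IsAffineOpen U) {V : X.Opens} (hV : IsAffineOpen V)
    (e : V ≤ f ⁻¹ᵁ U) (h : _root_.LocImm.IsLocHom (f.appLE U V e).hom) :
    Flat (V.ι ≫ f) := by
  haveI : Flat (Spec.map (f.appLE U V e)) :=
    (HasRingHomProperty.Spec_iff (P := @Flat)).mpr (flat_of_isLocHom h)
  rw [← hV.isoSpec_hom_fromSpec, Category.assoc, ← IsAffineOpen.SpecMap_appLE_fromSpec f hU hV e]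
  infer_instance

theorem exists_nhd_isPreimmersion (hf : _root_.LocImm.IsLocalizing f) (x : X) :
    ∃ V : X.Opens, x ∈ V ∧ IsAffineOpen V ∧ IsPreimmersion (V.ι ≫ f) := by
  obtain ⟨⟨U, hU⟩, ⟨V, hV⟩, hx, e, h⟩ := hf x
  exact ⟨V, hx, hV, isPreimmersion_ι_comp hU hV e h⟩

theorem flat_of_isLocalizing (hf : _root_.LocImm.IsLocalizing f) : Flat f := by
  refine Flat.of_stalkMap f fun x => ?_
  obtain ⟨⟨U, hU⟩, ⟨V, hV⟩, hx, e, h⟩ := hf x
  haveI := flat_ι_comp hU hV e h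
  have hfl := Flat.stalkMap (V.ι ≫ f) ⟨x, hx⟩
  rw [Scheme.Hom.stalkMap_comp, CommRingCat.hom_comp,
    RingHom.Flat.respectsIso.cancel_right_isIso] at hfl
  exact hfl

theorem isIso_stalkMap_of_isLocalizing (hf : _root_.LocImm.IsLocalizing f) (x : X) :
    IsIso (f.stalkMap x) := by
  haveI := flat_of_isLocalizing hf
  obtain ⟨V, hx, -, hV⟩ := exists_nhd_isPreimmersion hf x
  have hs := (V.ι ≫ f).stalkMap_surjective ⟨x, hx⟩
  rw [Scheme.Hom.stalkMap_comp] at hs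
  haveI : IsIso (V.ι.stalkMap ⟨x, hx⟩) := inferInstance
  rw [ConcreteCategory.isIso_iff_bijective]
  refine ⟨?_, fun a => ?_⟩
  · letI := (f.stalkMap x).hom.toAlgebra
    haveI : IsLocalHom (algebraMap (Y.presheaf.stalk (f x)) (X.presheaf.stalk x)) :=
      inferInstanceAs (IsLocalHom (f.stalkMap x).hom)
    haveI : Module.Flat (Y.presheaf.stalk (f x)) (X.presheaf.stalk x) := Flat.stalkMap f x
    haveI : Module.FaithfullyFlat (Y.presheaf.stalk (f x)) (X.presheaf.stalk x) :=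
      Module.FaithfullyFlat.of_flat_of_isLocalHom
    exact FaithfulSMul.algebraMap_injective (Y.presheaf.stalk (f x)) (X.presheaf.stalk x)
  · obtain ⟨b, hb⟩ := hs (V.ι.stalkMap ⟨x, hx⟩ a)
    exact ⟨b, (ConcreteCategory.bijective_of_isIso (V.ι.stalkMap ⟨x, hx⟩)).1 hb⟩

theorem exists_specializes_apply_eq (hf : _root_.LocImm.IsLocalizing f) {x : X} {y : Y}
    (h : y ⤳ f x) : ∃ x', x' ⤳ x ∧ f x' = y := by
  haveI := flat_of_isLocalizing hf
  exact (Flat.generalizingMap f) h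

theorem exists_preimage_le [NoetherianSpace X] (hf : _root_.LocImm.IsLocalizing f)
    (hinj : Function.Injective f) {x : X} {V : X.Opens} (hx : x ∈ V) {U : Y.Opens} (hxU : f x ∈ U) :
    ∃ W : Y.Opens, f x ∈ W ∧ W ≤ U ∧ f ⁻¹ᵁ W ≤ V := by
  obtain ⟨S, hSf, hSc, hSi, hS⟩ :=
    NoetherianSpace.exists_finite_set_isClosed_irreducible V.2.isClosed_compl
  let T : Set Y := ⋃ Z ∈ S, closure (f '' Z)
  have hT : IsClosed T := hSf.isClosed_biUnion fun _ _ => isClosed_closure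
  have hxT : f x ∉ T := by
    simp only [T, Set.mem_iUnion, not_exists]
    intro Z hZ hxZ
    obtain ⟨η, hη⟩ := QuasiSober.sober (hSi Z hZ) (hSc Z hZ)
    have hsub : f '' Z ⊆ closure {f η} := by
      rintro _ ⟨z, hz, rfl⟩
      exact ((hη.specializes hz).map f.continuous).mem_closure
    have hsp : f η ⤳ f x :=
      specializes_iff_mem_closure.mpr (closure_minimal hsub isClosed_closure hxZ)
    obtain ⟨x', hx', he⟩ := exists_specializes_apply_eq hf hsp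
    have hηZ : η ∈ ⋃₀ S := ⟨Z, hZ, hη.mem⟩
    rw [← hS] at hηZ
    exact hηZ (hinj he ▸ hx'.mem_open V.2 hx)
  refine ⟨U ⊓ ⟨Tᶜ, hT.isOpen_compl⟩, ⟨hxU, hxT⟩, inf_le_left, fun z hz => ?_⟩
  by_contra hzV
  obtain ⟨Z, hZ, hzZ⟩ : z ∈ ⋃₀ S := hS ▸ hzV
  exact hz.2 (Set.mem_biUnion hZ (subset_closure ⟨z, hzZ, rfl⟩))

theorem isPreimmersion_of_isLocImmersion [NoetherianSpace X]
    (hf : _root_.LocImm.IsLocImmersion f) : IsPreimmersion f := by
  haveI := isIso_stalkMap_of_isLocalizing hf.1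
  haveI : SurjectiveOnStalks f :=
    ⟨fun x => (ConcreteCategory.bijective_of_isIso (f.stalkMap x)).2⟩
  refine ⟨⟨Topology.isInducing_iff_nhds.mpr fun x => le_antisymm
    (f.continuous.tendsto x).le_comap ?_, hf.2⟩⟩
  rw [Filter.le_def]
  intro N hN
  obtain ⟨O, hON, hO, hxO⟩ := mem_nhds_iff.mp hN
  obtain ⟨V, hxV, -, hV⟩ := exists_nhd_isPreimmersion hf.1 x
  obtain ⟨T, hT, hTO⟩ := (V.ι ≫ f).isEmbedding.isInducing.isOpen_iff.mp
    (hO.preimage V.ι.continuous)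
  obtain ⟨W, hxW, -, hWV⟩ := exists_preimage_le hf.1 hf.2 hxV (U := ⊤) trivial
  have hxT : f x ∈ T := by
    have : (⟨x, hxV⟩ : V.toScheme) ∈ V.ι ⁻¹' O := hxO
    rw [← hTO] at this
    exact this
  refine Filter.mem_comap.mpr ⟨T ∩ W, (hT.inter W.2).mem_nhds ⟨hxT, hxW⟩, fun z hz => ?_⟩
  have hzV : z ∈ V := hWV hz.2
  have : (⟨z, hzV⟩ : V.toScheme) ∈ (V.ι ≫ f) ⁻¹' T := hz.1
  rw [hTO] at this
  exact hON this

theorem exists_isAffineOpen_preimage [NoetherianSpace X] (hf : _root_.LocImm.IsLocalizing f)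
    (hinj : Function.Injective f) (x : X) {O : Y.Opens} (hxO : f x ∈ O) :
    ∃ W : Y.Opens, f x ∈ W ∧ W ≤ O ∧ IsAffineOpen W ∧ IsAffineOpen (f ⁻¹ᵁ W) ∧
      _root_.LocImm.IsLocHom (f.app W).hom := by
  obtain ⟨⟨U, hU⟩, ⟨V, hV⟩, hx, e, h⟩ := hf x
  obtain ⟨W₀, hxW₀, hW₀, hW₀V⟩ := exists_preimage_le hf hinj hx (U := U ⊓ O) ⟨e hx, hxO⟩
  obtain ⟨a, haW, hxa⟩ := hU.exists_basicOpen_le ⟨f x, hxW₀⟩ (e hx)
  have hsub : f ⁻¹ᵁ Y.basicOpen a ≤ V := fun z hz => hW₀V (haW hz)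
  have hP : f ⁻¹ᵁ Y.basicOpen a = X.basicOpen (f.appLE U V e a) := by
    rw [Scheme.Hom.appLE, CommRingCat.comp_apply, Scheme.basicOpen_res, ← Scheme.preimage_basicOpen]
    exact (inf_eq_right.mpr hsub).symm
  have hPaff : IsAffineOpen (f ⁻¹ᵁ Y.basicOpen a) := hP ▸ hV.basicOpen _
  refine ⟨Y.basicOpen a, hxa, fun z hz => (hW₀ (haW hz)).2, hU.basicOpen a, hPaff, ?_⟩
  let r : Γ(Y, U) ⟶ Γ(Y, Y.basicOpen a) := Y.presheaf.map (homOfLE (Y.basicOpen_le a)).op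
  let t : Γ(X, V) ⟶ Γ(X, f ⁻¹ᵁ Y.basicOpen a) := X.presheaf.map (homOfLE hsub).op
  have ht : _root_.LocImm.IsLocHom t.hom := by
    letI := t.hom.toAlgebra
    haveI : IsLocalization.Away (f.appLE U V e a) Γ(X, f ⁻¹ᵁ Y.basicOpen a) :=
      hV.isLocalization_of_eq_basicOpen _ (homOfLE hsub) hP
    exact isLocHom_algebraMap (Submonoid.powers (f.appLE U V e a))
  have hcomp : f.appLE U V e ≫ t = r ≫ f.app (Y.basicOpen a) := by
    simp only [r, t, Scheme.Hom.appLE_map, Scheme.Hom.app_eq_appLE, Scheme.Hom.map_appLE]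
  have h' := isLocHom_comp h ht
  rw [← CommRingCat.hom_comp, hcomp, CommRingCat.hom_comp] at h'
  refine isLocHom_of_comp h' fun c => ?_
  haveI := hU.isLocalization_basicOpen a
  obtain ⟨⟨n, s⟩, hn⟩ := IsLocalization.surj (Submonoid.powers a) c
  exact ⟨n, s, (IsLocalization.map_units (M := Submonoid.powers a) Γ(Y, Y.basicOpen a) s).map
    (f.app (Y.basicOpen a)).hom, hn⟩

theorem isLocImmersion_iff [NoetherianSpace X] :
    _root_.LocImm.IsLocImmersion f ↔ ∀ x : X, ∃ V : Y.Opens, f x ∈ V ∧ IsAffineOpen V ∧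
      IsAffineOpen (f ⁻¹ᵁ V) ∧ _root_.LocImm.IsLocHom (f.app V).hom := by
  refine ⟨fun hf x => ?_, fun h => ⟨fun x => ?_, fun x₁ x₂ e => ?_⟩⟩
  · obtain ⟨W, h1, -, h2⟩ := exists_isAffineOpen_preimage hf.1 hf.2 x (O := ⊤) trivial
    exact ⟨W, h1, h2⟩
  · obtain ⟨W, hx, hW, hP, h⟩ := h x
    exact ⟨⟨W, hW⟩, ⟨_, hP⟩, hx, le_rfl, by rwa [← Scheme.Hom.app_eq_appLE]⟩
  · obtain ⟨W, hx, hW, hP, h⟩ := h x₁
    rw [Scheme.Hom.app_eq_appLE] at h
    haveI := isPreimmersion_ι_comp hW hP le_rfl h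
    have hx₂ : x₂ ∈ f ⁻¹ᵁ W := by
      change f x₂ ∈ W; exact (e : f x₁ = f x₂) ▸ hx
    exact congrArg Subtype.val (((f ⁻¹ᵁ W).ι ≫ f).isEmbedding.injective
      (a₁ := ⟨x₁, hx⟩) (a₂ := ⟨x₂, hx₂⟩) e)

end Groth.L19.LocImm
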