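import Groth.Agent.L19.LocImm.RingEss
import Groth.Agent.L19.LocImm.BaseChange
import Groth.Prelude.Def_EssFT
import Mathlib.AlgebraicGeometry.IdealSheaf.Subscheme
import Mathlib.AlgebraicGeometry.Morphisms.FiniteType

/-!
# The open locus where a morphism is a localizing immersion
-/

universe u

open CategoryTheory CategoryTheory.Limits AlgebraicGeometry TopologicalSpace

namespace Groth.L19.LocImm

set_option backward.isDefEq.respectTransparency.types false
set_option backward.isDefEq.respectTransparency false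
set_option linter.style.haveILetI false

variable {X Y Z : Scheme.{u}}

theorem isLocImmersion_of_isOpenImmersion (f : X ⟶ Y) [IsOpenImmersion f] :
    _root_.LocImm.IsLocImmersion f := by
  refine ⟨fun x => ?_, f.isOpenEmbedding.injective⟩
  obtain ⟨_, ⟨W, hW, rfl⟩, hxW, hWf⟩ :=
    Y.isBasis_affineOpens.exists_subset_of_mem_open (show f x ∈ f.opensRange from ⟨x, rfl⟩)
      f.opensRange.2
  refine ⟨⟨W, hW⟩, ⟨_, hW.preimage_of_isOpenImmersion f hWf⟩, hxW, le_rfl, ?_⟩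
  haveI := f.isIso_app W hWf
  rw [← Scheme.Hom.app_eq_appLE]
  exact isLocHom_of_bijective (ConcreteCategory.bijective_of_isIso (f.app W))

theorem isLocImmersion_comp [NoetherianSpace X] [NoetherianSpace Y] {f : X ⟶ Y} {g : Y ⟶ Z}
    (hf : _root_.LocImm.IsLocImmersion f) (hg : _root_.LocImm.IsLocImmersion g) :
    _root_.LocImm.IsLocImmersion (f ≫ g) := by
  refine isLocImmersion_iff.mpr fun x => ?_
  obtain ⟨W, hxW, hW, hP, hh⟩ := isLocImmersion_iff.mp hg (f x)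
  obtain ⟨V, hxV, hVW, hV, hQ, hk⟩ :=
    exists_isAffineOpen_preimage hf.1 hf.2 x (O := g ⁻¹ᵁ W) hxW
  obtain ⟨W₀, hxW₀, hW₀, hW₀V⟩ := exists_preimage_le hg.1 hg.2 (V := V) hxV (U := W) hxW
  obtain ⟨a, haW, hxa⟩ := hW.exists_basicOpen_le ⟨g (f x), hxW₀⟩ hxW
  have hpre : g ⁻¹ᵁ Z.basicOpen a = Y.basicOpen (g.appLE W V hVW a) := by
    rw [Scheme.Hom.appLE, CommRingCat.comp_apply, Scheme.basicOpen_res, ← Scheme.preimage_basicOpen]
    exact (inf_eq_right.mpr fun z hz => hW₀V (haW hz)).symm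
  have h1 := isLocHom_app_basicOpen hW hP hh a
  have h2 := isLocHom_app_basicOpen hV hQ hk (g.appLE W V hVW a)
  rw [← hpre] at h2
  refine ⟨Z.basicOpen a, hxa, hW.basicOpen a, ?_, ?_⟩
  · rw [Scheme.Hom.comp_preimage, hpre, Scheme.preimage_basicOpen]
    exact hQ.basicOpen _
  · rw [Scheme.Hom.comp_app, CommRingCat.hom_comp]
    exact isLocHom_comp h1 h2

theorem exists_isLocHom_appLE {g : X ⟶ Y} [IsLocallyNoetherian Y] {U : Y.Opens}
    (hU : IsAffineOpen U) {V : X.Opens} (hV : IsAffineOpen V) (e : V ≤ g ⁻¹ᵁ U)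
    (hft : (g.appLE U V e).hom.EssFiniteType) {y : X} (hy : y ∈ V) (hiso : IsIso (g.stalkMap y)) :
    ∃ (W : X.Opens) (_ : IsAffineOpen W) (e' : W ≤ g ⁻¹ᵁ U),
      y ∈ W ∧ _root_.LocImm.IsLocHom (g.appLE U W e').hom := by
  haveI : IsNoetherianRing Γ(Y, U) := IsLocallyNoetherian.component_noetherian ⟨U, hU⟩
  let φ := g.appLE U V e
  let q := (hV.primeIdealOf ⟨y, hy⟩).asIdeal
  let p := (hU.primeIdealOf ⟨g y, e hy⟩).asIdeal
  let σ := Y.presheaf.germ U (g y) (e hy)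
  let τ := X.presheaf.germ V y hy
  have hc : ∀ a, g.stalkMap y (σ a) = τ (φ a) := fun a => by
    simp only [σ, τ, φ, Scheme.Hom.appLE, ← CommRingCat.comp_apply, Category.assoc,
      TopCat.Presheaf.germ_res, Scheme.Hom.germ_stalkMap]
  letI : Algebra Γ(X, V) (X.presheaf.stalk y) := τ.hom.toAlgebra
  letI : Algebra Γ(Y, U) (Y.presheaf.stalk (g y)) := σ.hom.toAlgebra
  haveI hlq : IsLocalization.AtPrime (X.presheaf.stalk y) q := hV.isLocalization_stalk ⟨y, hy⟩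
  haveI hlp : IsLocalization.AtPrime (Y.presheaf.stalk (g y)) p :=
    hU.isLocalization_stalk ⟨g y, e hy⟩
  have hbij := ConcreteCategory.bijective_of_isIso (g.stalkMap y)
  have hunit : ∀ s, s ∉ p → φ s ∉ q := fun s hs => by
    refine (IsLocalization.AtPrime.isUnit_to_map_iff (X.presheaf.stalk y) q (φ s)).mp ?_
    rw [show algebraMap Γ(X, V) (X.presheaf.stalk y) (φ s) = g.stalkMap y (σ s) from (hc s).symm]
    exact ((IsLocalization.AtPrime.isUnit_to_map_iff (Y.presheaf.stalk (g y)) p s).mpr hs).map _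
  have hsurj : ∀ c, ∃ a s, φ s ∉ q ∧ ∃ t ∉ q, t * (φ s * c - φ a) = 0 := by
    intro c
    obtain ⟨z, hz⟩ := hbij.2 (τ c)
    obtain ⟨⟨a, s⟩, hzs⟩ := IsLocalization.surj p.primeCompl z
    refine ⟨a, s, hunit s s.2, ?_⟩
    have : algebraMap Γ(X, V) (X.presheaf.stalk y) (φ s * c - φ a) = 0 := by
      show τ (φ s * c - φ a) = 0
      rw [map_sub, map_mul, ← hc, ← hc, ← hz, ← map_mul, mul_comm, show z * σ s = σ a from hzs,
        sub_self]
    obtain ⟨⟨t, ht⟩, hte⟩ := (IsLocalization.map_eq_zero_iff q.primeCompl _ _).mp this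
    exact ⟨t, ht, hte⟩
  have hinj : ∀ a t, t ∉ q → t * φ a = 0 → ∃ u, φ u ∉ q ∧ u * a = 0 := by
    intro a t ht hta
    have h0 : τ (φ a) = 0 :=
      (IsLocalization.map_eq_zero_iff q.primeCompl (X.presheaf.stalk y) _).mpr ⟨⟨t, ht⟩, hta⟩
    rw [← hc] at h0
    have h1 : σ a = 0 := hbij.1 (h0.trans (map_zero _).symm)
    obtain ⟨⟨u, hu⟩, hue⟩ := (IsLocalization.map_eq_zero_iff p.primeCompl _ _).mp h1
    exact ⟨u, hunit u hu, hue⟩
  obtain ⟨d, hd, hloc⟩ := exists_isLocHom_away φ.hom hft q hsurj hinj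
  have hle : X.basicOpen d ≤ g ⁻¹ᵁ U := (X.basicOpen_le d).trans e
  refine ⟨X.basicOpen d, hV.basicOpen d, hle, ?_, ?_⟩
  · rw [Scheme.mem_basicOpen _ _ _ hy]
    exact (IsLocalization.AtPrime.isUnit_to_map_iff (X.presheaf.stalk y) q d).mpr hd
  · haveI := hV.isLocalization_basicOpen d
    have := hloc Γ(X, X.basicOpen d)
    rwa [show g.appLE U (X.basicOpen d) hle = φ ≫ X.presheaf.map (homOfLE (X.basicOpen_le d)).op from
      (Scheme.Hom.appLE_map _ _ _).symm]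

theorem finite_maximal [NoetherianSpace X] :
    {x : X | ∀ x' : X, x' ⤳ x → x' = x}.Finite := by
  refine Set.Finite.of_finite_image (f := fun x => closure ({x} : Set X)) ?_ ?_
  · refine (NoetherianSpace.finite_irreducibleComponents (α := X)).subset ?_
    rintro _ ⟨x, hx, rfl⟩
    refine ⟨isIrreducible_singleton.closure, fun T hT hle => ?_⟩
    obtain ⟨η, hη⟩ := QuasiSober.sober hT.closure isClosed_closure
    have h1 : η ⤳ x := hη.specializes (subset_closure (hle (subset_closure rfl)))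
    rw [hx η h1] at hη
    exact subset_closure.trans hη.def.ge
  · intro a ha b hb h
    have : a ⤳ b := specializes_iff_mem_closure.mpr ((show closure ({a} : Set X) = closure {b} from h) ▸ subset_closure rfl)
    exact hb a this

theorem isLocImmersion_iso_comp [NoetherianSpace X] [NoetherianSpace Y] (i : X ⟶ Y) [IsIso i]
    {g : Y ⟶ Z} (hg : _root_.LocImm.IsLocImmersion g) : _root_.LocImm.IsLocImmersion (i ≫ g) :=
  isLocImmersion_comp (isLocImmersion_of_isOpenImmersion i) hg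

theorem exists_open_isLocImmersion [IsNoetherian X] [IsNoetherian Y] [IsLocallyNoetherian Z]
    (f₁ : X ⟶ Y) (f₂ : X ⟶ Z) (g : Y ⟶ Z) (hf₁ : _root_.LocImm.IsLocImmersion f₁)
    (hf₂ : _root_.LocImm.IsLocImmersion f₂) [IsSeparated g] [EssFT.LocallyEssFiniteType g]
    (h : f₁ ≫ g = f₂) :
    ∃ U : Y.Opens, Set.range f₁ ⊆ (U : Set Y) ∧ _root_.LocImm.IsLocImmersion (U.ι ≫ g) := by
  let good : Y → Prop := fun y => ∃ (U : Z.affineOpens) (W : Y.affineOpens) (_ : y ∈ W.1)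
    (e : W.1 ≤ g ⁻¹ᵁ U.1), _root_.LocImm.IsLocHom (g.appLE U W e).hom
  let L : Y.Opens := ⨆ W : {W : Y.affineOpens // ∃ (U : Z.affineOpens) (e : W.1 ≤ g ⁻¹ᵁ U.1),
    _root_.LocImm.IsLocHom (g.appLE U W e).hom}, W.1.1
  have hfL : ∀ x, f₁ x ∈ L := by
    intro x
    obtain ⟨⟨U, hU⟩, ⟨V, hV⟩, hy, e, hft⟩ :=
      EssFT.LocallyEssFiniteType.exists_appLE_essFiniteType (f := g) (f₁ x)
    haveI := isIso_stalkMap_of_isLocalizing hf₂.1 x
    haveI := isIso_stalkMap_of_isLocalizing hf₁.1 x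
    have hiso : IsIso (g.stalkMap (f₁ x)) := by
      subst h
      haveI : IsIso (g.stalkMap (f₁ x) ≫ f₁.stalkMap x) := by
        rw [← Scheme.Hom.stalkMap_comp]; infer_instance
      exact IsIso.of_isIso_comp_right _ (f₁.stalkMap x)
    obtain ⟨W, hW, e', hyW, hl⟩ := exists_isLocHom_appLE hU hV e hft hy hiso
    exact Opens.mem_iSup.mpr ⟨⟨⟨W, hW⟩, ⟨U, hU⟩, e', hl⟩, hyW⟩
  have hLl : ∀ y ∈ L, good y := by
    intro y hy
    obtain ⟨⟨W, U, e, hl⟩, hyW⟩ := Opens.mem_iSup.mp hy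
    exact ⟨U, W, hyW, e, hl⟩
  let K : Set L.toScheme :=
    {y | (∀ y' : L.toScheme, y' ⤳ y → y' = y) ∧ L.ι y ∉ Set.range f₁}
  haveI : NoetherianSpace L.toScheme := L.ι.isOpenEmbedding.isInducing.noetherianSpace
  have hK : K.Finite := finite_maximal.subset fun y hy => hy.1
  let T : Set L.toScheme := ⋃ y ∈ K, closure {y}
  have hT : IsClosed T := hK.isClosed_biUnion fun _ _ => isClosed_closure
  let U' : L.toScheme.Opens := ⟨Tᶜ, hT.isOpen_compl⟩
  refine ⟨L.ι ''ᵁ U', ?_, ?_⟩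
  · rintro _ ⟨x, rfl⟩
    refine ⟨⟨f₁ x, hfL x⟩, fun hxT => ?_, rfl⟩
    simp only [T, Set.mem_iUnion] at hxT
    obtain ⟨y, hy, hxy⟩ := hxT
    have hsp : L.ι y ⤳ f₁ x := (specializes_iff_mem_closure.mpr hxy).map L.ι.continuous
    obtain ⟨x', -, hx'⟩ := exists_specializes_apply_eq hf₁.1 hsp
    exact hy.2 ⟨x', hx'⟩
  let U := L.ι ''ᵁ U'
  have hUL : U ≤ L := by rintro _ ⟨y, -, rfl⟩; exact y.2
  have hUloc : _root_.LocImm.IsLocalizing (U.ι ≫ g) := by
    intro y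
    obtain ⟨⟨V, hV⟩, ⟨W, hW⟩, hyW, e, hl⟩ := hLl y.1 (hUL y.2)
    obtain ⟨a, haU, hya⟩ := hW.exists_basicOpen_le ⟨y.1, y.2⟩ hyW
    have hsub : Y.basicOpen a ≤ g ⁻¹ᵁ V := (Y.basicOpen_le a).trans e
    have hl' : _root_.LocImm.IsLocHom (g.appLE V (Y.basicOpen a) hsub).hom := by
      rw [show g.appLE V (Y.basicOpen a) hsub =
        g.appLE V W e ≫ Y.presheaf.map (homOfLE (Y.basicOpen_le a)).op from
          (Scheme.Hom.appLE_map _ _ _).symm, CommRingCat.hom_comp]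
      haveI := hW.isLocalization_basicOpen a
      exact isLocHom_comp hl (isLocHom_algebraMap (B := Γ(Y, Y.basicOpen a)) (Submonoid.powers a))
    have hrange : Y.basicOpen a ≤ U.ι.opensRange := by rwa [Scheme.Opens.opensRange_ι]
    refine ⟨⟨V, hV⟩, ⟨_, (hW.basicOpen a).preimage_of_isOpenImmersion U.ι hrange⟩, hya,
      fun z hz => hsub hz, ?_⟩
    rw [← Scheme.Hom.appLE_comp_appLE U.ι g V (Y.basicOpen a) _ hsub le_rfl, CommRingCat.hom_comp]
    refine isLocHom_comp hl' ?_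
    rw [← Scheme.Hom.app_eq_appLE]
    haveI := U.ι.isIso_app _ hrange
    exact isLocHom_of_bijective (ConcreteCategory.bijective_of_isIso (U.ι.app _))
  haveI : NoetherianSpace U.toScheme := U.ι.isOpenEmbedding.isInducing.noetherianSpace
  refine ⟨hUloc, injective_of_injOn_maximal hUloc fun y₁ hy₁ y₂ hy₂ e => ?_⟩
  have hmem : ∀ y : U.toScheme, (∀ y', y' ⤳ y → y' = y) → U.ι y ∈ Set.range f₁ := by
    intro y hy
    obtain ⟨z, hz, hzy⟩ := y.2
    by_contra hn
    have hzmax : ∀ z' : L.toScheme, z' ⤳ z → z' = z := by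
      intro z' hz'
      have h' : L.ι z' ⤳ (y.1 : Y) := hzy ▸ hz'.map L.ι.continuous
      have h'' : (⟨L.ι z', h'.mem_open U.2 y.2⟩ : U.toScheme) ⤳ y :=
        U.ι.isEmbedding.isInducing.specializes_iff.mp h'
      exact L.ι.isOpenEmbedding.injective ((congrArg Subtype.val (hy _ h'')).trans hzy.symm)
    have hn' : L.ι z ∉ Set.range f₁ := fun h => hn (by
      rw [show U.ι y = L.ι z from hzy.symm]; exact h)
    exact hz (Set.mem_biUnion (⟨hzmax, hn'⟩ : z ∈ K) (subset_closure rfl))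
  obtain ⟨x₁, hx₁⟩ := hmem y₁ hy₁
  obtain ⟨x₂, hx₂⟩ := hmem y₂ hy₂
  have : x₁ = x₂ := hf₂.2 (by
    show f₂ x₁ = f₂ x₂
    rw [← h, Scheme.Hom.comp_apply, Scheme.Hom.comp_apply, hx₁, hx₂]
    exact e)
  exact U.ι.isOpenEmbedding.injective (by rw [← hx₁, ← hx₂, this])

theorem app_injective_toImage (f : X ⟶ Y) [QuasiCompact f] (U : f.image.Opens) :
    Function.Injective (f.toImage.app U).hom := by
  intro s t h
  refine TopCat.Presheaf.section_ext f.image.sheaf U s t fun z hz => ?_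
  refine f.stalkFunctor_toImage_injective z ?_
  erw [TopCat.Presheaf.stalkFunctor_map_germ_apply U z hz f.toImage.c s,
    TopCat.Presheaf.stalkFunctor_map_germ_apply U z hz f.toImage.c t]
  exact congrArg _ h

theorem locallyEssFiniteType_of_locallyOfFiniteType (f : X ⟶ Y) [LocallyOfFiniteType f] :
    EssFT.LocallyEssFiniteType f := by
  refine ⟨fun x => ?_⟩
  obtain ⟨_, ⟨U, hU, rfl⟩, hxU, -⟩ :=
    Y.isBasis_affineOpens.exists_subset_of_mem_open (Set.mem_univ (f x)) isOpen_univ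
  obtain ⟨_, ⟨V, hV, rfl⟩, hxV, hVU⟩ :=
    X.isBasis_affineOpens.exists_subset_of_mem_open (show x ∈ f ⁻¹ᵁ U from hxU) (f ⁻¹ᵁ U).2
  exact ⟨⟨U, hU⟩, ⟨V, hV⟩, hxV, hVU,
    (LocallyOfFiniteType.finiteType_appLE f hU hV hVU).essFiniteType⟩

end Groth.L19.LocImm
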