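import Groth.Agent.L19.LocImm.Basic
import Mathlib.AlgebraicGeometry.Morphisms.Separated
import Mathlib.RingTheory.Spectrum.Prime.Topology

/-!
# Localizing immersions: separatedness and dense factorizations
-/

universe u

open CategoryTheory CategoryTheory.Limits AlgebraicGeometry TopologicalSpace

namespace Groth.L19.LocImm

set_option backward.isDefEq.respectTransparency.types false
set_option backward.isDefEq.respectTransparency false
set_option linter.style.haveILetI false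

variable {X Y Z : Scheme.{u}} {f : X ⟶ Y}

theorem quasiCompact_of_noetherianSpace (f : X ⟶ Y) [NoetherianSpace X] : QuasiCompact f :=
  ⟨fun _ _ _ => NoetherianSpace.isCompact _⟩

theorem isOpenImmersion_of_isLocImmersion [NoetherianSpace X]
    (hf : _root_.LocImm.IsLocImmersion f) [LocallyOfFinitePresentation f] : IsOpenImmersion f := by
  haveI := isPreimmersion_of_isLocImmersion hf
  haveI := flat_of_isLocalizing hf.1
  haveI := isIso_stalkMap_of_isLocalizing hf.1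
  exact IsOpenImmersion.iff_isIso_stalkMap.mpr
    ⟨⟨f.isEmbedding, f.isOpenMap.isOpen_range⟩, inferInstance⟩

theorem exists_lift_stalk [∀ x, IsIso (f.stalkMap x)] (x : X) {y : Y} (h : f x = y) :
    ∃ l : Spec (Y.presheaf.stalk y) ⟶ X, l ≫ f = Y.fromSpecStalk y ∧
      l (IsLocalRing.closedPoint (Y.presheaf.stalk y)) = x := by
  subst h
  refine ⟨Spec.map (inv (f.stalkMap x)) ≫ X.fromSpecStalk x, ?_, ?_⟩
  · rw [Category.assoc, ← Scheme.SpecMap_stalkMap_fromSpecStalk, ← Spec.map_comp_assoc,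
      IsIso.hom_inv_id, Spec.map_id, Category.id_comp]
  · rw [Scheme.Hom.comp_apply]
    have : (Spec.map (inv (f.stalkMap x))) (IsLocalRing.closedPoint (Y.presheaf.stalk (f x))) =
        IsLocalRing.closedPoint (X.presheaf.stalk x) :=
      IsLocalRing.comap_closedPoint (inv (f.stalkMap x)).hom
    rw [this, Scheme.fromSpecStalk_closedPoint]

theorem injective_of_injOn_maximal (hf : _root_.LocImm.IsLocalizing f) [IsSeparated f]
    (hmax : Set.InjOn (fun x => f x) {x : X | ∀ x' : X, x' ⤳ x → x' = x}) :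
    Function.Injective f := by
  intro x₁ x₂ e
  haveI := isIso_stalkMap_of_isLocalizing hf
  obtain ⟨l₁, hl₁, hc₁⟩ := exists_lift_stalk (f := f) x₁ (y := f x₁) rfl
  obtain ⟨l₂, hl₂, hc₂⟩ := exists_lift_stalk (f := f) x₂ (y := f x₁) e.symm
  let R := Y.presheaf.stalk (f x₁)
  let ev : Spec R ⟶ pullback f f := pullback.lift l₁ l₂ (hl₁.trans hl₂.symm)
  obtain ⟨m, hm, hmc⟩ : ∃ m : Spec R, (∀ m', m' ⤳ m → m' = m) ∧ m ⤳ IsLocalRing.closedPoint R := by
    obtain ⟨m, hm⟩ := Ideal.nonempty_minimalPrimes (I := (⊥ : Ideal R)) bot_ne_top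
    let m₀ : PrimeSpectrum R := ⟨m, hm.1.1⟩
    refine ⟨m₀, fun (m' : PrimeSpectrum R) (h : m' ⤳ m₀) => ?_,
      (PrimeSpectrum.le_iff_specializes m₀ _).mp (IsLocalRing.le_maximalIdeal hm.1.1.ne_top)⟩
    have h' : m' ≤ m₀ := (PrimeSpectrum.le_iff_specializes m' m₀).mpr h
    exact le_antisymm (α := PrimeSpectrum R) h' (hm.2 ⟨m'.isPrime, bot_le⟩ h')
  have hmaximal : ∀ l : Spec R ⟶ X, l ≫ f = Y.fromSpecStalk (f x₁) →
      ∀ x' : X, x' ⤳ l m → x' = l m := by
    intro l hl x' hx'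
    obtain ⟨V, hV, -, hVf⟩ := exists_nhd_isPreimmersion hf (l m)
    have hsp : f x' ⤳ Y.fromSpecStalk (f x₁) m := by
      rw [← hl]; exact hx'.map f.continuous
    have hrange : f x' ∈ Set.range (Y.fromSpecStalk (f x₁)) := by
      rw [Scheme.range_fromSpecStalk]
      refine hsp.trans ?_
      have := hmc.map (Y.fromSpecStalk (f x₁)).continuous
      rwa [Scheme.fromSpecStalk_closedPoint] at this
    obtain ⟨m', hm'⟩ := hrange
    have hm'' : m' ⤳ m := by
      rw [← (Y.fromSpecStalk (f x₁)).isEmbedding.isInducing.specializes_iff, hm']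
      exact hsp
    have hf' : f x' = f (l m) := by
      rw [← hm', hm m' hm'', ← hl]; rfl
    exact congrArg Subtype.val ((V.ι ≫ f).isEmbedding.injective
      (a₁ := ⟨x', hx'.mem_open V.2 hV⟩) (a₂ := ⟨l m, hV⟩) hf')
  have hz : l₁ m = l₂ m := hmax (hmaximal l₁ hl₁) (hmaximal l₂ hl₂) (by
    show (l₁ ≫ f) m = (l₂ ≫ f) m
    rw [hl₁, hl₂])
  obtain ⟨V, hV, -, hVf⟩ := exists_nhd_isPreimmersion hf (l₁ m)
  let p := (Spec R).fromSpecResidueField m
  have hr : ∀ l : Spec R ⟶ X, l m = l₁ m → Set.range (p ≫ l) ⊆ Set.range V.ι := by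
    rintro l hl _ ⟨z, rfl⟩
    rw [Scheme.Opens.range_ι, Scheme.Hom.comp_apply, Scheme.fromSpecResidueField_apply, hl]
    exact hV
  let a₁ := IsOpenImmersion.lift V.ι (p ≫ l₁) (hr l₁ rfl)
  let a₂ := IsOpenImmersion.lift V.ι (p ≫ l₂) (hr l₂ hz.symm)
  have ha : p ≫ l₁ = p ≫ l₂ := by
    rw [← IsOpenImmersion.lift_fac V.ι (p ≫ l₁) (hr l₁ rfl),
      ← IsOpenImmersion.lift_fac V.ι (p ≫ l₂) (hr l₂ hz.symm)]
    refine congrArg (· ≫ V.ι) ((cancel_mono (V.ι ≫ f)).mp ?_)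
    simp only [← Category.assoc, IsOpenImmersion.lift_fac]
    simp only [Category.assoc, hl₁, hl₂]
  have hev : p ≫ ev = (p ≫ l₁) ≫ pullback.diagonal f := by
    apply pullback.hom_ext
    · simp [ev]
    · simp [ev, ha]
  have hmem : ev m ∈ Set.range (pullback.diagonal f) := by
    obtain ⟨z⟩ : Nonempty ↥(Spec ((Spec R).residueField m)) := inferInstance
    refine ⟨(p ≫ l₁) z, ?_⟩
    rw [← Scheme.Hom.comp_apply, ← hev, Scheme.Hom.comp_apply, Scheme.fromSpecResidueField_apply]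
  have hcl := ((hmc.map ev.continuous).mem_closed
    (pullback.diagonal f).isClosedEmbedding.isClosed_range hmem)
  obtain ⟨w, hw⟩ := hcl
  have h1 : pullback.fst f f (ev (IsLocalRing.closedPoint R)) = x₁ := by
    rw [← Scheme.Hom.comp_apply, pullback.lift_fst, hc₁]
  have h2 : pullback.snd f f (ev (IsLocalRing.closedPoint R)) = x₂ := by
    rw [← Scheme.Hom.comp_apply, pullback.lift_snd, hc₂]
  rw [← h1, ← h2, ← hw, ← Scheme.Hom.comp_apply, ← Scheme.Hom.comp_apply, pullback.diagonal_fst,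
    pullback.diagonal_snd]

theorem isLocHom_appLE_of_eq {W : Y.Opens} (h : _root_.LocImm.IsLocHom (f.app W).hom)
    {P : X.Opens} (hP : P = f ⁻¹ᵁ W) :
    _root_.LocImm.IsLocHom (f.appLE W P hP.le).hom := by
  subst hP
  rwa [← Scheme.Hom.app_eq_appLE]

theorem isLocHom_app_basicOpen {W : Y.Opens} (hW : IsAffineOpen W) (hP : IsAffineOpen (f ⁻¹ᵁ W))
    (h : _root_.LocImm.IsLocHom (f.app W).hom) (a : Γ(Y, W)) :
    _root_.LocImm.IsLocHom (f.app (Y.basicOpen a)).hom := by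
  let r : Γ(Y, W) ⟶ Γ(Y, Y.basicOpen a) := Y.presheaf.map (homOfLE (Y.basicOpen_le a)).op
  let hle : f ⁻¹ᵁ Y.basicOpen a ≤ f ⁻¹ᵁ W := fun _ hz => Y.basicOpen_le a hz
  let t : Γ(X, f ⁻¹ᵁ W) ⟶ Γ(X, f ⁻¹ᵁ Y.basicOpen a) := X.presheaf.map (homOfLE hle).op
  have ht : _root_.LocImm.IsLocHom t.hom := by
    letI := t.hom.toAlgebra
    haveI : IsLocalization.Away (f.app W a) Γ(X, f ⁻¹ᵁ Y.basicOpen a) :=
      hP.isLocalization_of_eq_basicOpen _ (homOfLE hle) (Scheme.preimage_basicOpen f a)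
    exact isLocHom_algebraMap (Submonoid.powers (f.app W a))
  have h' := isLocHom_comp h ht
  have hcomp : f.app W ≫ t = r ≫ f.app (Y.basicOpen a) :=
    (f.naturality (homOfLE (Y.basicOpen_le a)).op).symm
  rw [← CommRingCat.hom_comp, hcomp, CommRingCat.hom_comp] at h'
  refine isLocHom_of_comp h' fun c => ?_
  haveI := hW.isLocalization_basicOpen a
  obtain ⟨⟨n, s⟩, hn⟩ := IsLocalization.surj (Submonoid.powers a) c
  exact ⟨n, s, (IsLocalization.map_units (M := Submonoid.powers a) Γ(Y, Y.basicOpen a) s).map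
    (f.app (Y.basicOpen a)).hom, hn⟩

theorem isLocImmersion_of_comp_injective [NoetherianSpace X] (g : Y ⟶ Z)
    (hfg : _root_.LocImm.IsLocImmersion (f ≫ g))
    (hd : ∀ U : Y.Opens, Function.Injective (f.app U).hom) :
    _root_.LocImm.IsLocImmersion f := by
  refine (isLocImmersion_iff).mpr fun x => ?_
  obtain ⟨W, hxW, -, hW, hP, hh⟩ :=
    exists_isAffineOpen_preimage hfg.1 hfg.2 x (O := ⊤) trivial
  obtain ⟨_, ⟨U, hU, rfl⟩, hxU, hUW⟩ :=
    Y.isBasis_affineOpens.exists_subset_of_mem_open (show f x ∈ g ⁻¹ᵁ W from hxW) (g ⁻¹ᵁ W).2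
  obtain ⟨W₀, hxW₀, hW₀, hW₀U⟩ := exists_preimage_le hfg.1 hfg.2
    (V := f ⁻¹ᵁ U) hxU (U := W) hxW
  obtain ⟨a, haW, hxa⟩ := hW.exists_basicOpen_le ⟨(f ≫ g) x, hxW₀⟩ hxW
  have hh' := isLocHom_app_basicOpen hW hP hh a
  let U' : Y.Opens := Y.basicOpen (g.appLE W U hUW a)
  have hU' : U' = U ⊓ g ⁻¹ᵁ Z.basicOpen a := by
    simp only [U', Scheme.Hom.appLE, CommRingCat.comp_apply, Scheme.basicOpen_res,
      ← Scheme.preimage_basicOpen]
  have hpre : f ⁻¹ᵁ U' = (f ≫ g) ⁻¹ᵁ Z.basicOpen a := by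
    rw [hU', Scheme.Hom.preimage_inf, ← Scheme.Hom.comp_preimage]
    exact inf_eq_right.mpr fun z hz => hW₀U (haW hz)
  refine ⟨U', hU'.ge ⟨hxU, hxa⟩, hU.basicOpen _, ?_, ?_⟩
  · rw [hpre, Scheme.preimage_basicOpen]
    exact hP.basicOpen _
  have h1 := isLocHom_appLE_of_eq hh' hpre
  have e1 : U' ≤ g ⁻¹ᵁ Z.basicOpen a := hU'.le.trans inf_le_right
  rw [← Scheme.Hom.appLE_comp_appLE f g _ U' _ e1 le_rfl, CommRingCat.hom_comp,
    ← Scheme.Hom.app_eq_appLE] at h1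
  exact isLocHom_of_comp_of_injective h1 (hd U')

theorem comap_map_eq [NoetherianSpace X] (hf : _root_.LocImm.IsLocImmersion f)
    (I : X.IdealSheafData) : (I.map f).comap f = I := by
  refine le_antisymm (Scheme.IdealSheafData.comap_map_le I f) ?_
  haveI := quasiCompact_of_noetherianSpace f
  choose W hxW hW hP hh using isLocImmersion_iff.mp hf
  refine Scheme.IdealSheafData.le_of_iSup_eq_top (fun x : X => ⟨f ⁻¹ᵁ W x, hP x⟩)
    (eq_top_iff.mpr fun x _ => Opens.mem_iSup.mpr ⟨x, hxW x⟩) fun x => ?_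
  have hle : I.map f ≤ ((I.map f).comap f).map f := Scheme.IdealSheafData.le_map_comap _ _
  have h1 := hle ⟨W x, hW x⟩
  rw [Scheme.IdealSheafData.ideal_map ((I.map f).comap f) f ⟨W x, hW x⟩ (hP x),
    Scheme.IdealSheafData.ideal_map I f ⟨W x, hW x⟩ (hP x)] at h1
  have hh' := hh x
  rw [isLocHom_iff] at hh'
  intro b hb
  obtain ⟨a, s, hs, he⟩ := hh'.1 b
  have ha : (f.app (W x)).hom a ∈ ((I.map f).comap f).ideal ⟨f ⁻¹ᵁ W x, hP x⟩ :=
    h1 (show a ∈ Ideal.comap (f.app (W x)).hom (I.ideal ⟨f ⁻¹ᵁ W x, hP x⟩) from by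
      rw [Ideal.mem_comap, ← he]; exact Ideal.mul_mem_right _ _ hb)
  rw [← he] at ha
  exact (Ideal.mul_unit_mem_iff_mem _ hs).mp ha

end Groth.L19.LocImm
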