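import Groth.Prelude.Def_W4c5cptfessfintypeLocImm
import Mathlib.RingTheory.Localization.Basic
import Mathlib.RingTheory.Flat.Localization
import Mathlib.RingTheory.RingHom.Flat

/-!
# Localizing ring maps
-/

universe u v w

namespace Groth.L19.LocImm

variable {A : Type u} {B : Type v} {C : Type w} [CommRing A] [CommRing B] [CommRing C]

theorem isLocHom_iff (φ : A →+* B) :
    _root_.LocImm.IsLocHom φ ↔
      (∀ b, ∃ a s, IsUnit (φ s) ∧ b * φ s = φ a) ∧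
        ∀ a a', φ a = φ a' → ∃ s, IsUnit (φ s) ∧ s * a = s * a' := by
  letI := φ.toAlgebra
  constructor
  · rintro ⟨S, hS⟩
    refine ⟨fun b => ?_, fun a a' h => ?_⟩
    · obtain ⟨⟨a, s⟩, h⟩ := IsLocalization.surj S b
      exact ⟨a, s, IsLocalization.map_units (M := S) B s, h⟩
    · obtain ⟨s, hs⟩ := IsLocalization.exists_of_eq (M := S) (S := B) (x := a) (y := a') h
      exact ⟨s, IsLocalization.map_units (M := S) B s, hs⟩
  · rintro ⟨h1, h2⟩
    refine ⟨(IsUnit.submonoid B).comap φ.toMonoidHom, (isLocalization_iff _ _).mpr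
      ⟨fun s => s.2, fun b => ?_, fun {x y} h => ?_⟩⟩
    · obtain ⟨a, s, hs, h⟩ := h1 b
      exact ⟨⟨a, ⟨s, hs⟩⟩, h⟩
    · obtain ⟨s, hs, h⟩ := h2 x y h
      exact ⟨⟨s, hs⟩, h⟩

theorem isLocHom_comp {φ : A →+* B} {ψ : B →+* C} (hφ : _root_.LocImm.IsLocHom φ)
    (hψ : _root_.LocImm.IsLocHom ψ) : _root_.LocImm.IsLocHom (ψ.comp φ) := by
  rw [isLocHom_iff] at hφ hψ ⊢
  refine ⟨fun x => ?_, fun a a' h => ?_⟩
  · obtain ⟨b, t, ht, hx⟩ := hψ.1 x
    obtain ⟨a, s, hs, hb⟩ := hφ.1 b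
    obtain ⟨a', s', hs', ht'⟩ := hφ.1 t
    have h1 : ψ t * ψ (φ s') = ψ (φ a') := by rw [← map_mul, ht']
    refine ⟨a * s', a' * s, ?_, ?_⟩
    · rw [RingHom.comp_apply, map_mul, map_mul, ← h1]
      exact (ht.mul (hs'.map ψ)).mul (hs.map ψ)
    · simp only [RingHom.comp_apply, map_mul]
      rw [← h1, ← hb, map_mul, ← hx]
      ring
  · obtain ⟨t, ht, hte⟩ := hψ.2 (φ a) (φ a') h
    obtain ⟨α, s', hs', hα⟩ := hφ.1 t
    have : φ (α * a) = φ (α * a') := by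
      rw [map_mul, map_mul, ← hα, mul_right_comm, hte, mul_right_comm]
    obtain ⟨s, hs, he⟩ := hφ.2 _ _ this
    refine ⟨s * α, ?_, by rw [mul_assoc, mul_assoc]; exact he⟩
    rw [RingHom.comp_apply, map_mul, map_mul, ← hα, map_mul]
    exact (hs.map ψ).mul (ht.mul (hs'.map ψ))

theorem isLocHom_of_bijective {φ : A →+* B} (h : Function.Bijective φ) :
    _root_.LocImm.IsLocHom φ := by
  rw [isLocHom_iff]
  refine ⟨fun b => ?_, fun a a' e => ⟨1, by simp, by rw [h.1 e]⟩⟩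
  obtain ⟨a, rfl⟩ := h.2 b
  exact ⟨a, 1, by simp, by simp⟩

theorem isLocHom_algebraMap (S : Submonoid A) [Algebra A B] [IsLocalization S B] :
    _root_.LocImm.IsLocHom (algebraMap A B) := by
  rw [isLocHom_iff]
  refine ⟨fun b => ?_, fun a a' h => ?_⟩
  · obtain ⟨⟨a, s⟩, h⟩ := IsLocalization.surj S b
    exact ⟨a, s, IsLocalization.map_units (M := S) B s, h⟩
  · obtain ⟨s, hs⟩ := IsLocalization.exists_of_eq (M := S) h
    exact ⟨s, IsLocalization.map_units (M := S) B s, hs⟩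

/-- Cancel the first map when every element of the middle ring is a fraction. -/
theorem isLocHom_of_comp {ψ : A →+* C} {χ : C →+* B} (h : _root_.LocImm.IsLocHom (χ.comp ψ))
    (hψ : ∀ c, ∃ a k, IsUnit (χ (ψ k)) ∧ c * ψ k = ψ a) : _root_.LocImm.IsLocHom χ := by
  rw [isLocHom_iff] at h ⊢
  refine ⟨fun b => ?_, fun c₁ c₂ e => ?_⟩
  · obtain ⟨a, s, hs, hb⟩ := h.1 b
    exact ⟨ψ a, ψ s, hs, hb⟩
  · obtain ⟨a₁, k₁, hk₁, h₁⟩ := hψ c₁
    obtain ⟨a₂, k₂, hk₂, h₂⟩ := hψ c₂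
    obtain ⟨s, hs, hse⟩ := h.2 (a₁ * k₂) (a₂ * k₁) (by
      simp only [RingHom.comp_apply, map_mul, ← h₁, ← h₂, e]; ring)
    refine ⟨ψ (s * k₁ * k₂), ?_, ?_⟩
    · simp only [map_mul]
      exact (hs.mul hk₁).mul hk₂
    · calc ψ (s * k₁ * k₂) * c₁ = ψ s * (c₁ * ψ k₁) * ψ k₂ := by simp only [map_mul]; ring
        _ = ψ (s * (a₁ * k₂)) := by rw [h₁]; simp only [map_mul]; ring
        _ = ψ (s * (a₂ * k₁)) := by rw [hse]
        _ = ψ s * (c₂ * ψ k₂) * ψ k₁ := by rw [h₂]; simp only [map_mul]; ring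
        _ = ψ (s * k₁ * k₂) * c₂ := by simp only [map_mul]; ring

theorem isLocHom_of_comp_of_injective {ψ : A →+* C} {χ : C →+* B}
    (h : _root_.LocImm.IsLocHom (χ.comp ψ)) (hχ : Function.Injective χ) :
    _root_.LocImm.IsLocHom χ := by
  rw [isLocHom_iff] at h ⊢
  refine ⟨fun b => ?_, fun c₁ c₂ e => ⟨1, by simp, by rw [hχ e]⟩⟩
  obtain ⟨a, s, hs, hb⟩ := h.1 b
  exact ⟨ψ a, ψ s, hs, hb⟩

theorem flat_of_isLocHom {A B : Type u} [CommRing A] [CommRing B] {φ : A →+* B}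
    (h : _root_.LocImm.IsLocHom φ) : φ.Flat := by
  letI := φ.toAlgebra
  obtain ⟨S, hS⟩ := h
  exact IsLocalization.flat B S

end Groth.L19.LocImm
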