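import Groth.Agent.L19.LocImm.Ring
import Mathlib.RingTheory.EssentialFiniteness
import Mathlib.RingTheory.Noetherian.Basic
import Mathlib.RingTheory.Localization.Away.Basic

/-!
# Essentially finite maps with trivial localization at a prime are locally localizing
-/

universe u v w

namespace Groth.L19.LocImm

variable {A : Type u} {C : Type v} [CommRing A] [CommRing C]

theorem exists_isLocHom_away [IsNoetherianRing A] (φ : A →+* C) (hft : φ.EssFiniteType)
    (q : Ideal C) [q.IsPrime]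
    (hsurj : ∀ c, ∃ a s, φ s ∉ q ∧ ∃ t ∉ q, t * (φ s * c - φ a) = 0)
    (hinj : ∀ a t, t ∉ q → t * φ a = 0 → ∃ u, φ u ∉ q ∧ u * a = 0) :
    ∃ d ∉ q, ∀ (D : Type v) [CommRing D] [Algebra C D] [IsLocalization.Away d D],
      _root_.LocImm.IsLocHom ((algebraMap C D).comp φ) := by
  classical
  letI := φ.toAlgebra
  haveI : Algebra.EssFiniteType A C := hft
  let σ := Algebra.EssFiniteType.finset A C
  choose a s hs t ht hts using hsurj
  let d₁ : C := ∏ c ∈ σ, t c * φ (s c)
  have hd₁ : d₁ ∉ q := prod_mem (S := q.primeCompl) fun c _ => fun h =>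
    (Ideal.IsPrime.mem_or_mem ‹q.IsPrime› h).elim (ht c) (hs c)
  let I : Ideal A :=
    { carrier := {x | ∃ k : ℕ, d₁ ^ k * φ x = 0}
      zero_mem' := ⟨0, by simp⟩
      add_mem' := by
        rintro x y ⟨k, hk⟩ ⟨l, hl⟩
        exact ⟨k + l, by rw [map_add, mul_add, pow_add, mul_assoc, mul_assoc, mul_left_comm _ _ (φ x),
          hk, hl, mul_zero, mul_zero, add_zero]⟩
      smul_mem' := by
        rintro c x ⟨k, hk⟩
        exact ⟨k, by rw [smul_eq_mul, map_mul, mul_left_comm, hk, mul_zero]⟩ }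
  obtain ⟨G, hG⟩ := (IsNoetherian.noetherian I : I.FG)
  have hu : ∀ g ∈ G, ∃ u, φ u ∉ q ∧ u * g = 0 := by
    intro g hg
    obtain ⟨k, hk⟩ : g ∈ I := hG ▸ Ideal.subset_span hg
    exact hinj g (d₁ ^ k) (fun h => hd₁ (Ideal.IsPrime.mem_of_pow_mem ‹_› _ h)) hk
  choose! u hu hug using hu
  let v : A := ∏ g ∈ G, u g
  have hv : φ v ∉ q := by
    rw [map_prod]; exact prod_mem (S := q.primeCompl) fun g hg => hu g hg
  have hvI : ∀ x ∈ I, v * x = 0 := by
    intro x hx
    rw [← hG] at hx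
    induction hx using Submodule.span_induction with
    | mem g hg =>
      rw [show v = (∏ g' ∈ G.erase g, u g') * u g from (Finset.prod_erase_mul _ _ hg).symm,
        mul_assoc, hug g hg, mul_zero]
    | zero => simp
    | add x y _ _ hx hy => rw [mul_add, hx, hy, add_zero]
    | smul c x _ hx => rw [smul_eq_mul, mul_left_comm, hx, mul_zero]
  refine ⟨d₁ * φ v, fun h => (Ideal.IsPrime.mem_or_mem ‹q.IsPrime› h).elim hd₁ hv, ?_⟩
  intro D _ _ _
  let χ : C →+* D := algebraMap C D
  have hd : IsUnit (χ d₁) ∧ IsUnit (χ (φ v)) :=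
    IsUnit.mul_iff.mp (map_mul χ d₁ (φ v) ▸ IsLocalization.Away.algebraMap_isUnit (d₁ * φ v))
  have hgen : ∀ c ∈ σ, IsUnit (χ (t c)) ∧ IsUnit (χ (φ (s c))) := fun c hc => by
    have h := hd.1
    rw [show d₁ = (∏ c' ∈ σ.erase c, t c' * φ (s c')) * (t c * φ (s c)) from
      (Finset.prod_erase_mul _ _ hc).symm, map_mul, map_mul] at h
    exact IsUnit.mul_iff.mp (IsUnit.mul_iff.mp h).2
  let F : Subalgebra A C :=
    { carrier := {c | ∃ x y, IsUnit (χ (φ y)) ∧ χ c * χ (φ y) = χ (φ x)}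
      mul_mem' := by
        rintro c c' ⟨x, y, hy, h⟩ ⟨x', y', hy', h'⟩
        refine ⟨x * x', y * y', by simp only [map_mul]; exact hy.mul hy', ?_⟩
        simp only [map_mul]
        rw [mul_mul_mul_comm, h, h']
      add_mem' := by
        rintro c c' ⟨x, y, hy, h⟩ ⟨x', y', hy', h'⟩
        refine ⟨x * y' + x' * y, y * y', by simp only [map_mul]; exact hy.mul hy', ?_⟩
        simp only [map_mul, map_add, ← h, ← h']
        ring
      algebraMap_mem' := fun x => ⟨x, 1, by simp, by simp [RingHom.algebraMap_toAlgebra]⟩ }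
  have hσF : Algebra.adjoin A (σ : Set C) ≤ F := Algebra.adjoin_le fun c hc => by
    refine ⟨a c, s c, (hgen c hc).2, ?_⟩
    have := congrArg χ (hts c)
    rw [map_mul, map_zero] at this
    have := (hgen c hc).1.mul_right_eq_zero.mp this
    rw [map_sub, sub_eq_zero, map_mul] at this
    rw [mul_comm]; exact this
  have hF : ∀ c, c ∈ F := by
    intro c
    obtain ⟨t', ht', htu, hct⟩ := ((Algebra.essFiniteType_cond_iff A C σ).mp
      (Algebra.EssFiniteType.isLocalization (R := A) (S := C))) c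
    obtain ⟨x, y, hy, h⟩ := hσF hct
    obtain ⟨x', y', hy', h'⟩ := hσF ht'
    refine ⟨x * y', y * x', ?_, ?_⟩
    · simp only [map_mul, ← h']
      exact hy.mul ((htu.map χ).mul hy')
    · rw [map_mul] at h
      simp only [map_mul, ← h, ← h']
      ring
  rw [isLocHom_iff]
  refine ⟨fun z => ?_, fun x x' e => ?_⟩
  · obtain ⟨⟨c, e⟩, hz⟩ := IsLocalization.surj (Submonoid.powers (d₁ * φ v)) z
    obtain ⟨x, y, hy, h⟩ := hF c
    obtain ⟨x', y', hy', h'⟩ := hF e
    have heu : IsUnit (χ (e : C)) := IsLocalization.map_units (M := Submonoid.powers (d₁ * φ v)) D e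
    refine ⟨x * y', y * x', ?_, ?_⟩
    · simp only [RingHom.comp_apply, map_mul]
      rw [show algebraMap C D = χ from rfl, ← h']
      exact hy.mul (heu.mul hy')
    · simp only [RingHom.comp_apply, map_mul]
      rw [show algebraMap C D = χ from rfl, ← h, ← h', ← hz]
      ring
  · have : χ (φ (x - x')) = 0 := by simpa [sub_eq_zero] using e
    obtain ⟨⟨_, k, rfl⟩, hk⟩ :=
      (IsLocalization.map_eq_zero_iff (Submonoid.powers (d₁ * φ v)) D _).mp this
    have hI : v ^ k * (x - x') ∈ I := ⟨k, by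
      rw [map_mul, map_pow, ← mul_assoc, ← mul_pow]; exact hk⟩
    have := hvI _ hI
    refine ⟨v ^ (k + 1), by simp only [RingHom.comp_apply, map_pow]; exact hd.2.pow _, ?_⟩
    rwa [← mul_assoc, ← pow_succ', mul_sub, sub_eq_zero] at this

end Groth.L19.LocImm
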