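import Groth.Agent.L19.LocImm.Factor

/-!
# Localizable properties of essentially finite type morphisms
-/

universe u

open CategoryTheory CategoryTheory.Limits AlgebraicGeometry TopologicalSpace

namespace Groth.L19.LocImm

set_option backward.isDefEq.respectTransparency.types false
set_option backward.isDefEq.respectTransparency false
set_option linter.style.haveILetI false

variable {X Y S : Scheme.{u}}

theorem isLocImmersion_fromSpecStalk [IsLocallyNoetherian X] (x : X) :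
    _root_.LocImm.IsLocImmersion (X.fromSpecStalk x) := by
  obtain ⟨_, ⟨U, hU, rfl⟩, hxU, -⟩ :=
    X.isBasis_affineOpens.exists_subset_of_mem_open (Set.mem_univ x) isOpen_univ
  letI := (X.presheaf.germ U x hxU).hom.toAlgebra
  haveI : IsLocalization.AtPrime (X.presheaf.stalk x) (hU.primeIdealOf ⟨x, hxU⟩).asIdeal :=
    hU.isLocalization_stalk ⟨x, hxU⟩
  haveI : IsNoetherianRing Γ(X, U) := IsLocallyNoetherian.component_noetherian ⟨U, hU⟩
  rw [← hU.fromSpecStalk_eq_fromSpecStalk hxU, IsAffineOpen.fromSpecStalk]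
  exact isLocImmersion_comp (isLocImmersion_specMap (X.presheaf.germ U x hxU)
    (isLocHom_algebraMap (A := Γ(X, U)) (B := X.presheaf.stalk x)
      (hU.primeIdealOf ⟨x, hxU⟩).asIdeal.primeCompl))
    (isLocImmersion_of_isOpenImmersion hU.fromSpec)

theorem essFiniteType_comp [IsNoetherian X] {k : X ⟶ Y} (hk : _root_.LocImm.IsLocImmersion k)
    (h : Y ⟶ S) [LocallyOfFiniteType h] : EssFT.EssFiniteType (k ≫ h) := by
  haveI : QuasiCompact (k ≫ h) := quasiCompact_of_noetherianSpace _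
  haveI : EssFT.LocallyEssFiniteType (k ≫ h) := by
    refine ⟨fun x => ?_⟩
    obtain ⟨_, ⟨U, hU, rfl⟩, hxU, -⟩ :=
      S.isBasis_affineOpens.exists_subset_of_mem_open (Set.mem_univ ((k ≫ h) x)) isOpen_univ
    obtain ⟨W, hxW, hWU, hW, hP, hl⟩ :=
      exists_isAffineOpen_preimage hk.1 hk.2 x (O := h ⁻¹ᵁ U) hxU
    refine ⟨⟨U, hU⟩, ⟨k ⁻¹ᵁ W, hP⟩, hxW, fun z hz => hWU hz, ?_⟩
    rw [← Scheme.Hom.appLE_comp_appLE k h U W (k ⁻¹ᵁ W) hWU le_rfl, CommRingCat.hom_comp]
    refine RingHom.EssFiniteType.stableUnderComposition _ _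
      (LocallyOfFiniteType.finiteType_appLE h hU hW hWU).essFiniteType ?_
    rw [← Scheme.Hom.app_eq_appLE]
    letI := (k.app W).hom.toAlgebra
    obtain ⟨M, hM⟩ := hl
    exact Algebra.EssFiniteType.of_isLocalization Γ(X, k ⁻¹ᵁ W) M
  exact { }

theorem spec_map_stalkMap (k : X ⟶ Y) [∀ x, IsIso (k.stalkMap x)] (x : X) (h : Y ⟶ S) :
    Spec.map (inv (k.stalkMap x)) ≫ X.fromSpecStalk x ≫ k ≫ h = Y.fromSpecStalk (k x) ≫ h := by
  rw [← Scheme.SpecMap_stalkMap_fromSpecStalk_assoc, ← Spec.map_comp_assoc, IsIso.hom_inv_id,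
    Spec.map_id, Category.id_comp]

section

variable (P : MorphismProperty Scheme.{u})
  (hα : ∀ {W X Y : Scheme.{u}} [IsNoetherian W] [IsNoetherian X] [IsNoetherian Y] (i : W ⟶ X)
    (f : X ⟶ Y) [IsSeparated f] [EssFT.EssFiniteType f], _root_.LocImm.IsLocImmersion i →
      P f → P (i ≫ f))
  [IsNoetherian X] [IsNoetherian Y] [IsNoetherian S]

include hα in
theorem prop_fromSpecStalk_comp_iff {k : X ⟶ Y} (hk : _root_.LocImm.IsLocImmersion k) (x : X)
    (h : Y ⟶ S) [IsSeparated h] [LocallyOfFiniteType h] :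
    P (X.fromSpecStalk x ≫ k ≫ h) ↔ P (Y.fromSpecStalk (k x) ≫ h) := by
  haveI := isPreimmersion_of_isLocImmersion hk
  haveI := isIso_stalkMap_of_isLocalizing hk.1
  have hx := isLocImmersion_fromSpecStalk (X := X) x
  have hy := isLocImmersion_fromSpecStalk (X := Y) (k x)
  haveI := essFiniteType_comp hy h
  haveI := essFiniteType_comp (isLocImmersion_comp hx hk) h
  haveI : EssFT.EssFiniteType (X.fromSpecStalk x ≫ k ≫ h) := by
    rw [← Category.assoc]; infer_instance
  refine ⟨fun H => ?_, fun H => ?_⟩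
  · rw [← spec_map_stalkMap k x h]
    exact hα _ _ (isLocImmersion_of_isOpenImmersion _) H
  · rw [show X.fromSpecStalk x ≫ k ≫ h = Spec.map (k.stalkMap x) ≫ Y.fromSpecStalk (k x) ≫ h from
      (Scheme.SpecMap_stalkMap_fromSpecStalk_assoc k h).symm]
    exact hα _ _ (isLocImmersion_of_isOpenImmersion _) H

include hα in
theorem localizable
    (hβ₁ : ∀ {X Y : Scheme.{u}} [IsNoetherian X] [IsNoetherian Y] (f : X ⟶ Y) [IsSeparated f]
      [LocallyOfFiniteType f], (∀ x : X, P (X.fromSpecStalk x ≫ f)) → P f)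
    (hβ₂ : ∀ {X Y : Scheme.{u}} [IsNoetherian X] [IsNoetherian Y] (f : X ⟶ Y) [IsSeparated f]
      [LocallyOfFiniteType f], IsOpen {x : X | P (X.fromSpecStalk x ≫ f)})
    (f : X ⟶ S) [IsSeparated f] [EssFT.EssFiniteType f] :
    ((∀ x : X, P (X.fromSpecStalk x ≫ f)) → P f) ∧ IsOpen {x : X | P (X.fromSpecStalk x ≫ f)} ∧
      (P f → ∃ (Z : Scheme.{u}) (i : X ⟶ Z) (h : Z ⟶ S), IsNoetherian Z ∧
        _root_.LocImm.IsLocImmersion i ∧ IsSeparated h ∧ LocallyOfFiniteType h ∧ QuasiCompact h ∧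
        P h ∧ i ≫ h = f) := by
  obtain ⟨Z, k, h, hn, hk, hs, hl, hq, hkh⟩ := exists_factorization (f := f)
  have hiff : ∀ x, P (X.fromSpecStalk x ≫ f) ↔ P (Z.fromSpecStalk (k x) ≫ h) := fun x => by
    subst hkh; exact prop_fromSpecStalk_comp_iff P hα hk x h
  let O : Z.Opens := ⟨{z | P (Z.fromSpecStalk z ≫ h)}, hβ₂ h⟩
  haveI : IsNoetherian O.toScheme := isNoetherian_of_lft O.ι
  have hO : P (O.ι ≫ h) := hβ₁ _ fun z => by
    haveI : EssFT.EssFiniteType (O.toScheme.fromSpecStalk z ≫ O.ι ≫ h) :=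
      essFiniteType_comp (isLocImmersion_fromSpecStalk z) (O.ι ≫ h)
    exact (prop_fromSpecStalk_comp_iff P hα (isLocImmersion_of_isOpenImmersion O.ι) z h).mpr z.2
  have key : (∀ x : X, P (X.fromSpecStalk x ≫ f)) →
      ∃ k' : X ⟶ O.toScheme, _root_.LocImm.IsLocImmersion k' ∧ k' ≫ O.ι ≫ h = f := fun hx => by
    have hr : Set.range k ⊆ Set.range O.ι := by
      rw [Scheme.Opens.range_ι]; rintro _ ⟨x, rfl⟩; exact (hiff x).mp (hx x)
    exact ⟨IsOpenImmersion.lift O.ι k hr, isLocImmersion_of_comp_isOpenImmersion _ O.ι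
      ((IsOpenImmersion.lift_fac O.ι k hr).symm ▸ hk), by rw [IsOpenImmersion.lift_fac_assoc, hkh]⟩
  refine ⟨fun hx => ?_, ?_, fun hf => ?_⟩
  · obtain ⟨k', hk', e⟩ := key hx
    haveI := essFiniteType_comp (isLocImmersion_of_isOpenImmersion O.ι) h
    exact e ▸ hα k' (O.ι ≫ h) hk' hO
  · rw [show {x : X | P (X.fromSpecStalk x ≫ f)} = k ⁻¹' (O : Set Z) from Set.ext hiff]
    exact O.2.preimage k.continuous
  · obtain ⟨k', hk', e⟩ := key fun x => by
      haveI : EssFT.EssFiniteType (X.fromSpecStalk x ≫ f) := by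
        rw [← hkh, ← Category.assoc]
        exact essFiniteType_comp (isLocImmersion_comp (isLocImmersion_fromSpecStalk x) hk) h
      exact hα _ f (isLocImmersion_fromSpecStalk x) hf
    exact ⟨O.toScheme, k', O.ι ≫ h, inferInstance, hk', inferInstance, inferInstance,
      quasiCompact_of_noetherianSpace _, hO, e⟩

end

theorem flat_fromSpecStalk_comp_iff [IsLocallyNoetherian X] (f : X ⟶ S) (x : X) :
    Flat (X.fromSpecStalk x ≫ f) ↔ (f.stalkMap x).hom.Flat := by
  have hk := isLocImmersion_fromSpecStalk (X := X) x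
  haveI := isIso_stalkMap_of_isLocalizing hk.1
  refine ⟨fun h => ?_, fun h => ?_⟩
  · have := Flat.stalkMap (X.fromSpecStalk x ≫ f) (IsLocalRing.closedPoint (X.presheaf.stalk x))
    rw [Scheme.Hom.stalkMap_comp, CommRingCat.hom_comp,
      RingHom.Flat.respectsIso.cancel_right_isIso] at this
    have e : ∀ y, (f.stalkMap y).hom.Flat → y = x → (f.stalkMap x).hom.Flat := by
      rintro y hy rfl; exact hy
    exact e _ this Scheme.fromSpecStalk_closedPoint
  · haveI : Flat (Spec.map (f.stalkMap x)) := (HasRingHomProperty.Spec_iff (P := @Flat)).mpr h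
    haveI := flat_of_isLocalizing hk.1
    rw [← Scheme.SpecMap_stalkMap_fromSpecStalk]
    obtain ⟨_, ⟨U, hU, rfl⟩, hxU, -⟩ :=
      S.isBasis_affineOpens.exists_subset_of_mem_open (Set.mem_univ (f x)) isOpen_univ
    letI := (S.presheaf.germ U (f x) hxU).hom.toAlgebra
    haveI : IsLocalization.AtPrime (S.presheaf.stalk (f x)) (hU.primeIdealOf ⟨f x, hxU⟩).asIdeal :=
      hU.isLocalization_stalk ⟨f x, hxU⟩
    haveI : Flat (Spec.map (S.presheaf.germ U (f x) hxU)) :=
      (HasRingHomProperty.Spec_iff (P := @Flat)).mpr (IsLocalization.flat (S.presheaf.stalk (f x))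
        (hU.primeIdealOf ⟨f x, hxU⟩).asIdeal.primeCompl)
    rw [← hU.fromSpecStalk_eq_fromSpecStalk hxU, IsAffineOpen.fromSpecStalk]
    infer_instance

end Groth.L19.LocImm
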