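import Groth.Agent.L19.LocImm.Glue

/-!
# Factorizations through localizing immersions glue
-/

universe u

open CategoryTheory CategoryTheory.Limits AlgebraicGeometry TopologicalSpace

namespace Groth.L19.LocImm

set_option backward.isDefEq.respectTransparency.types false
set_option backward.isDefEq.respectTransparency false
set_option linter.style.haveILetI false

variable {X S : Scheme.{u}}

theorem exists_of_two [IsNoetherian X] [IsNoetherian S] (f : X ⟶ S) [IsSeparated f]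
    (U₁ U₂ : X.Opens) (hU : U₁ ⊔ U₂ = ⊤) {Y₁ Y₂ : Scheme.{u}} [IsNoetherian Y₁] [IsNoetherian Y₂]
    (k₁ : U₁.toScheme ⟶ Y₁) (k₂ : U₂.toScheme ⟶ Y₂) (p₁ : Y₁ ⟶ S) (p₂ : Y₂ ⟶ S)
    (hk₁ : _root_.LocImm.IsLocImmersion k₁) (hk₂ : _root_.LocImm.IsLocImmersion k₂)
    [IsSeparated p₁] [IsSeparated p₂] [LocallyOfFiniteType p₁] [LocallyOfFiniteType p₂]
    (h₁ : k₁ ≫ p₁ = U₁.ι ≫ f) (h₂ : k₂ ≫ p₂ = U₂.ι ≫ f) :
    ∃ (Y : Scheme.{u}) (k : X ⟶ Y) (p : Y ⟶ S), IsNoetherian Y ∧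
      _root_.LocImm.IsLocImmersion k ∧ IsSeparated p ∧ LocallyOfFiniteType p ∧ QuasiCompact p ∧
      k ≫ p = f := by
  haveI hn : ∀ U : X.Opens, IsNoetherian U.toScheme := fun U => isNoetherian_of_lft U.ι
  let r₁ := X.homOfLE (inf_le_left : U₁ ⊓ U₂ ≤ U₁)
  let r₂ := X.homOfLE (inf_le_right : U₁ ⊓ U₂ ≤ U₂)
  have hr₁ := isLocImmersion_comp (isLocImmersion_of_isOpenImmersion r₁) hk₁
  have hr₂ := isLocImmersion_comp (isLocImmersion_of_isOpenImmersion r₂) hk₂
  obtain ⟨W₀, k₀, g₁, g₂, hk₀, hg₁, hg₂, hg, e₁, e₂⟩ :=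
    exists_common (r₁ ≫ k₁) (r₂ ≫ k₂) p₁ p₂ hr₁ hr₂ (by simp [r₁, r₂, h₁, h₂])
  haveI := isPreimmersion_of_isLocImmersion hk₁
  haveI := isPreimmersion_of_isLocImmersion hk₂
  obtain ⟨O₁, hO₁, hO₁'⟩ := k₁.isEmbedding.isInducing.isOpen_iff.mp (U₂.2.preimage U₁.ι.continuous)
  obtain ⟨O₂, hO₂, hO₂'⟩ := k₂.isEmbedding.isInducing.isOpen_iff.mp (U₁.2.preimage U₂.ι.continuous)
  have hm₁ : ∀ x : U₁.toScheme, k₁ x ∈ O₁ ↔ x.1 ∈ U₂ := fun x => Set.ext_iff.mp hO₁' x
  have hm₂ : ∀ x : U₂.toScheme, k₂ x ∈ O₂ ↔ x.1 ∈ U₁ := fun x => Set.ext_iff.mp hO₂' x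
  let W : W₀.Opens := ⟨g₁ ⁻¹' O₁ ∩ g₂ ⁻¹' O₂,
    (hO₁.preimage g₁.continuous).inter (hO₂.preimage g₂.continuous)⟩
  have hkW : Set.range k₀ ⊆ Set.range W.ι := by
    rw [Scheme.Opens.range_ι]
    rintro _ ⟨x, rfl⟩
    refine ⟨?_, ?_⟩
    · show g₁ (k₀ x) ∈ O₁
      rw [← Scheme.Hom.comp_apply, e₁, Scheme.Hom.comp_apply]
      refine (hm₁ _).mpr ?_
      have : (r₁ x).1 = x.1 := congr($(X.homOfLE_ι (inf_le_left : U₁ ⊓ U₂ ≤ U₁)) x)
      rw [this]; exact x.2.2
    · show g₂ (k₀ x) ∈ O₂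
      rw [← Scheme.Hom.comp_apply, e₂, Scheme.Hom.comp_apply]
      refine (hm₂ _).mpr ?_
      have : (r₂ x).1 = x.1 := congr($(X.homOfLE_ι (inf_le_right : U₁ ⊓ U₂ ≤ U₂)) x)
      rw [this]; exact x.2.1
  let a := W.ι ≫ g₁
  let b := W.ι ≫ g₂
  let p : pushout a b ⟶ S := pushout.desc p₁ p₂ (by simp [a, b, hg])
  let k'' := IsOpenImmersion.lift W.ι k₀ hkW
  have ek : k'' ≫ W.ι = k₀ := IsOpenImmersion.lift_fac _ _ _
  obtain ⟨k, hk1, hk2⟩ := Approx.exists_glue U₁ U₂ hU (k₁ ≫ pushout.inl a b)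
    (k₂ ≫ pushout.inr a b) (by
      have := congrArg (k'' ≫ ·) (pushout.condition (f := a) (g := b))
      simp only [a, b, Category.assoc, reassoc_of% ek, reassoc_of% e₁, reassoc_of% e₂] at this
      exact this)
  haveI : IsLocallyNoetherian S := inferInstance
  haveI : CompactSpace ↥(pushout a b) := Approx.compactSpace_pushout a b
  haveI : LocallyOfFiniteType p := by
    refine (IsZariskiLocalAtSource.iff_of_iSup_eq_top (P := @LocallyOfFiniteType)
      (fun i : Bool => cond i (pushout.inl a b).opensRange (pushout.inr a b).opensRange) ?_).mpr ?_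
    · exact top_le_iff.mp ((Approx.opensRange_sup_opensRange a b).ge.trans
        (sup_le (le_iSup_of_le true le_rfl) (le_iSup_of_le false le_rfl)))
    · rintro (_ | _)
      · refine (MorphismProperty.cancel_left_of_respectsIso (P := @LocallyOfFiniteType)
          (pushout.inr a b).isoOpensRange.hom _).mp ?_
        rw [← Category.assoc]
        simp [Scheme.Hom.isoOpensRange_hom_ι, p]
        infer_instance
      · refine (MorphismProperty.cancel_left_of_respectsIso (P := @LocallyOfFiniteType)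
          (pushout.inl a b).isoOpensRange.hom _).mp ?_
        rw [← Category.assoc]
        simp [Scheme.Hom.isoOpensRange_hom_ι, p]
        infer_instance
  haveI : AlgebraicGeometry.IsNoetherian (pushout a b : Scheme.{u}) := by
    haveI := LocallyOfFiniteType.isLocallyNoetherian p
    exact { }
  have hkp : k ≫ p = f := by
    refine X.openCoverOfIsOpenCover (fun i : Bool => cond i U₁ U₂)
      (top_le_iff.mp (hU.ge.trans (sup_le (le_iSup_of_le true le_rfl) (le_iSup_of_le false le_rfl))))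
      |>.hom_ext _ _ ?_
    rintro (_ | _)
    · show U₂.ι ≫ k ≫ p = U₂.ι ≫ f
      rw [reassoc_of% hk2, pushout.inr_desc, h₂]
    · show U₁.ι ≫ k ≫ p = U₁.ι ≫ f
      rw [reassoc_of% hk1, pushout.inl_desc, h₁]
  have hmem : ∀ x, x ∈ U₁ ∨ x ∈ U₂ := fun x => by simpa using hU.ge (Opens.mem_top x)
  have hk : _root_.LocImm.IsLocImmersion k := by
    refine ⟨isLocalizing_of_cover k fun x => ?_, ?_⟩
    · rcases hmem x with h | h
      · exact ⟨U₁, h, hk1 ▸ (isLocImmersion_comp hk₁ (isLocImmersion_of_isOpenImmersion (pushout.inl a b))).1⟩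
      · exact ⟨U₂, h, hk2 ▸ (isLocImmersion_comp hk₂ (isLocImmersion_of_isOpenImmersion (pushout.inr a b))).1⟩
    · have hmix : ∀ (x : U₁.toScheme) (y : U₂.toScheme), k x.1 = k y.1 → x.1 = y.1 := by
        intro x y e
        have e' : pushout.inl a b (k₁ x) = pushout.inr a b (k₂ y) :=
          (congr($hk1 x)).symm.trans (e.trans (congr($hk2 y)))
        obtain ⟨z, hz, -⟩ := Approx.exists_of_inl_eq_inr a b e'
        have hx : k₁ x ∈ O₁ := hz ▸ z.2.1
        have : x.1 ∈ U₂ := (hm₁ x).mp hx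
        have e'' : pushout.inr a b (k₂ ⟨x.1, this⟩) = pushout.inr a b (k₂ y) :=
          (congr($hk2 (⟨x.1, this⟩ : U₂.toScheme))).symm.trans (e.trans (congr($hk2 y)))
        exact congrArg Subtype.val (hk₂.2 ((pushout.inr a b).isOpenEmbedding.injective e''))
      intro x y e
      rcases hmem x with hx | hx <;> rcases hmem y with hy | hy
      · exact congrArg Subtype.val (hk₁.2 ((pushout.inl a b).isOpenEmbedding.injective
          ((congr($hk1 (⟨x, hx⟩ : U₁.toScheme))).symm.trans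
            (e.trans (congr($hk1 (⟨y, hy⟩ : U₁.toScheme)))))))
      · exact hmix ⟨x, hx⟩ ⟨y, hy⟩ e
      · exact (hmix ⟨y, hy⟩ ⟨x, hx⟩ e.symm).symm
      · exact congrArg Subtype.val (hk₂.2 ((pushout.inr a b).isOpenEmbedding.injective
          ((congr($hk2 (⟨x, hx⟩ : U₂.toScheme))).symm.trans
            (e.trans (congr($hk2 (⟨y, hy⟩ : U₂.toScheme)))))))
  haveI : IsSeparated (k ≫ p) := hkp ▸ inferInstance
  obtain ⟨Y', k', p', h1, h2, h3, h4, h5, h6⟩ := exists_open_model k hk p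
  exact ⟨Y', k', p', h1, h2, h3, h4, h5, h6.trans hkp⟩

end Groth.L19.LocImm
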